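import Groth.Agent.Crv77.TwistSection
import Groth.Agent.QC70.CohOps
import Groth.Agent.QC70.Sections

/-!
# Right exactness of `H¹` and jointly surjective families of maps

On a scheme where `H²` of coherent modules vanishes, a coherent module receiving maps from a module
with `H¹ = 0`, jointly surjective outside finitely many closed points, has `H¹ = 0`.
-/

set_option autoImplicit false
set_option linter.style.haveILetI false
set_option backward.isDefEq.respectTransparency.types false

universe u

open CategoryTheory CategoryTheory.Limits AlgebraicGeometry TopologicalSpace Opposite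

noncomputable section

namespace Groth.Agent.Curves2.H1Zero

open Groth.Agent.Crv77

variable (A : Type u) [CommRing A] {X : Scheme.{u}} [X.Over (Spec (CommRingCat.of A))]

/-- `H²` of coherent modules vanishes. -/
def H2Zero (X : Scheme.{u}) : Prop :=
  ∀ M : X.Modules, Coh.IsCoh M → Subsingleton (Coh.HH X M 2)

theorem kernelSeq_shortExact {M N : X.Modules} (φ : M ⟶ N) [Epi φ] :
    (ShortComplex.mk (kernel.ι φ) φ (kernel.condition φ)).ShortExact :=
  { exact := ShortComplex.exact_of_f_is_kernel _ (kernelIsKernel φ)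
    mono_f := inferInstanceAs (Mono (kernel.ι φ))
    epi_g := inferInstanceAs (Epi φ) }

theorem surjective_hmap_one [IsLocallyNoetherian X] (h2 : H2Zero X) {M N : X.Modules} (φ : M ⟶ N)
    [Epi φ] (hM : Coh.IsCoh M) (hN : Coh.IsCoh N) : Function.Surjective (hmap A φ 1) := fun b => by
  haveI := h2 _ (QC70.isCoh_kernel φ hM hN.1)
  exact ((exact_g_δ A (kernelSeq_shortExact φ) 1) b).1 (Subsingleton.elim _ _)

include A in
theorem subsingleton_h1_of_epi [IsLocallyNoetherian X] (h2 : H2Zero X) {M N : X.Modules} (φ : M ⟶ N)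
    [Epi φ] (hM : Coh.IsCoh M) (hN : Coh.IsCoh N) (h1 : Subsingleton (Coh.HH X M 1)) :
    Subsingleton (Coh.HH X N 1) :=
  (surjective_hmap_one A h2 φ hM hN).subsingleton

include A in
/-- Finitely many maps from a module with `H¹ = 0`, jointly surjective off finitely many closed
points, force `H¹ = 0`. -/
theorem subsingleton_h1_of_maps [IsLocallyNoetherian X] (h2 : H2Zero X) {M : X.Modules}
    (hM : Coh.IsCoh M) (h1 : Subsingleton (Coh.HH X M 1)) {S : Set X} (hS : S.Finite)
    (hcl : ∀ x ∈ S, IsClosed ({x} : Set X)) :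
    ∀ (r : ℕ) {T : X.Modules}, Coh.IsCoh T → ∀ φ : Fin r → (M ⟶ T),
      (∀ x, x ∉ S → Subsingleton (T.presheaf.stalk x) ∨
        ∃ i, Function.Surjective (QC70.stalkMapM (φ i) x)) →
      Subsingleton (Coh.HH X T 1) := by
  intro r
  induction r with
  | zero =>
    intro T _ φ h
    exact SuppIn.subsingleton_HH (M := T) (S := S) (fun x hx => (h x hx).elim id fun ⟨i, _⟩ => i.elim0)
      hS hcl 0
  | succ r ih =>
    intro T hT φ h
    have hQ : Coh.IsCoh (cokernel (φ 0)) := QC70.isCoh_cokernel (φ 0) hM.1 hT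
    haveI hQ1 : Subsingleton (Coh.HH X (cokernel (φ 0)) 1) := by
      refine ih hQ (fun i => φ i.succ ≫ cokernel.π (φ 0)) fun x hx => ?_
      have hπ : Function.Surjective (QC70.stalkMapM (cokernel.π (φ 0)) x) :=
        QC70.surjective_stalkMapM_of_epi _ x
      rcases h x hx with hz | ⟨i, hi⟩
      · exact Or.inl hπ.subsingleton
      · induction i using Fin.cases with
        | zero => exact Or.inl (QC70.subsingleton_stalk_cokernel (φ 0) x hi)
        | succ i =>
          refine Or.inr ⟨i, fun e => ?_⟩
          obtain ⟨e', rfl⟩ := hπ e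
          obtain ⟨m, rfl⟩ := hi e'
          exact ⟨m, QC70.stalkMapM_comp _ _ x m⟩
    -- the image of the first map
    haveI : Epi (cokernel.π (φ 0)) := inferInstance
    let G : X.Modules := kernel (cokernel.π (φ 0))
    have hG : Coh.IsCoh G := QC70.isCoh_kernel _ hT hQ.1
    haveI : Epi (kernel.lift (cokernel.π (φ 0)) (φ 0) (cokernel.condition _)) :=
      inferInstanceAs (Epi (Abelian.factorThruImage (φ 0)))
    haveI hG1 : Subsingleton (Coh.HH X G 1) :=
      subsingleton_h1_of_epi A h2 (kernel.lift (cokernel.π (φ 0)) (φ 0) (cokernel.condition _)) hM hG h1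
    refine subsingleton_of_forall_eq 0 fun t => ?_
    obtain ⟨g, rfl⟩ := ((exact_f_g A (kernelSeq_shortExact (cokernel.π (φ 0))) 1) t).1
      (Subsingleton.elim _ _)
    rw [Subsingleton.elim g 0]
    exact map_zero _

include A in
/-- Sections lift along an epimorphism whose kernel has `H¹ = 0`. -/
theorem surjective_app_top_of_h1 {S : ShortComplex X.Modules} (hS : S.ShortExact)
    (h1 : Subsingleton (Coh.HH X S.X₁ 1)) : Function.Surjective (S.g.app ⊤) := fun v => by
  obtain ⟨w, hw⟩ := ((exact_g_δ A hS 0) ((sec S.X₃).symm v)).1 (Subsingleton.elim _ _)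
  exact ⟨sec S.X₂ w, by rw [← sec_hmap A, hw, AddEquiv.apply_symm_apply]⟩

include A in
/-- `H¹` of the kernel vanishes when sections lift and `H¹` of the middle term vanishes. -/
theorem subsingleton_h1_of_surjective {S : ShortComplex X.Modules} (hS : S.ShortExact)
    (hg : Function.Surjective (S.g.app ⊤)) (h1 : Subsingleton (Coh.HH X S.X₂ 1)) :
    Subsingleton (Coh.HH X S.X₁ 1) := by
  refine subsingleton_of_forall_eq 0 fun t => ?_
  obtain ⟨v, rfl⟩ := ((exact_δ_f A hS 0) t).1 (Subsingleton.elim _ _)
  obtain ⟨w, hw⟩ := hg (sec S.X₃ v)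
  have hv : hmap A S.g 0 ((sec S.X₂).symm w) = v := (sec S.X₃).injective (by
    rw [sec_hmap A, AddEquiv.apply_symm_apply, hw])
  rw [← hv]
  exact ((exact_g_δ A hS 0) _).2 ⟨_, rfl⟩

end Groth.Agent.Curves2.H1Zero
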