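import Groth.Agent.Curves2.H1Zero.Generated
import Groth.Agent.Var76.SuppVanish
import Groth.Agent.KRR40.ProjFormula
import Groth.Agent.DCK91.StalkTensorNat
import Groth.Agent.KRR40.ProjFormulaVB

/-!
# `H¹ = 0` passes to quotients of arbitrary modules on a curve
-/

set_option autoImplicit false
set_option linter.style.haveILetI false
set_option backward.isDefEq.respectTransparency.types false

universe u

open CategoryTheory CategoryTheory.Limits AlgebraicGeometry TopologicalSpace Opposite

noncomputable section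

namespace Groth.Agent.Curves2.H1Zero

open Groth.Agent.Crv77 Groth.Agent.Var76.LineBundle
open Groth.Agent.Amp73 (tm)

variable (A : Type u) [CommRing A] {X : Scheme.{u}} [X.Over (Spec (CommRingCat.of A))]
  [IsNoetherian X] (hdim : topologicalKrullDim X ≤ 1)

include hdim in
theorem subsingleton_h2_any (M : X.Modules) : Subsingleton (Coh.HH X M 2) :=
  Var76.subsingleton_HH_of_support M (Z := Set.univ) isClosed_univ (fun _ h => (h trivial).elim) (d := 1)
    ((topologicalKrullDim_subspace_le X Set.univ).trans hdim) 2 one_lt_two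

include A hdim in
/-- A map surjective on stalks off finitely many closed points preserves `H¹ = 0`. -/
theorem subsingleton_h1_of_surjective_off {M N : X.Modules} (φ : M ⟶ N) {S : Set X} (hS : S.Finite)
    (hcl : ∀ x ∈ S, IsClosed ({x} : Set X)) (hφ : ∀ x, x ∉ S → Function.Surjective (QC70.stalkMapM φ x))
    (h1 : Subsingleton (Coh.HH X M 1)) : Subsingleton (Coh.HH X N 1) := by
  have hI : Subsingleton (Coh.HH X (Abelian.image φ) 1) := by
    refine subsingleton_of_forall_eq 0 fun b => ?_
    haveI := subsingleton_h2_any hdim (kernel (Abelian.factorThruImage φ))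
    obtain ⟨a, rfl⟩ := ((exact_g_δ A (kernelSeq_shortExact (Abelian.factorThruImage φ)) 1) b).1
      (Subsingleton.elim _ _)
    rw [Subsingleton.elim a 0]
    exact map_zero _
  have hseq : (ShortComplex.mk (Abelian.image.ι φ) (cokernel.π φ) (kernel.condition _)).ShortExact :=
    { exact := ShortComplex.exact_of_f_is_kernel _ (kernelIsKernel _)
      mono_f := inferInstanceAs (Mono (kernel.ι _))
      epi_g := inferInstanceAs (Epi (cokernel.π φ)) }
  have hC : Subsingleton (Coh.HH X (cokernel φ) 1) :=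
    SuppIn.subsingleton_HH (fun x hx => QC70.subsingleton_stalk_cokernel φ x (hφ x hx)) hS hcl 0
  refine subsingleton_of_forall_eq 0 fun t => ?_
  obtain ⟨v, rfl⟩ := ((exact_f_g A hseq 1) t).1 (Subsingleton.elim _ _)
  rw [Subsingleton.elim v 0]
  exact map_zero _

include A hdim in
/-- Finitely many maps jointly spanning the stalks preserve `H¹ = 0`. -/
theorem subsingleton_h1_of_joint {M : X.Modules} (h1 : Subsingleton (Coh.HH X M 1)) :
    ∀ (r : ℕ) {T : X.Modules} (φ : Fin r → (M ⟶ T)),
      (∀ (x : X) (e : T.presheaf.stalk x), ∃ m : Fin r → M.presheaf.stalk x,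
        e = ∑ i, QC70.stalkMapM (φ i) x (m i)) → Subsingleton (Coh.HH X T 1) := by
  intro r
  induction r with
  | zero =>
    intro T φ h
    refine SuppIn.subsingleton_HH (S := ∅) (fun x _ => subsingleton_of_forall_eq 0 fun e => ?_)
      Set.finite_empty (by simp) 0
    obtain ⟨m, rfl⟩ := h x e
    simp
  | succ r ih =>
    intro T φ h
    have hI : Subsingleton (Coh.HH X (Abelian.image (φ 0)) 1) :=
      subsingleton_h1_of_surjective_off A hdim (Abelian.factorThruImage (φ 0)) Set.finite_empty (by simp)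
        (fun x _ => QC70.surjective_stalkMapM_of_epi _ x) h1
    have hseq : (ShortComplex.mk (Abelian.image.ι (φ 0)) (cokernel.π (φ 0)) (kernel.condition _)).ShortExact :=
      { exact := ShortComplex.exact_of_f_is_kernel _ (kernelIsKernel _)
        mono_f := inferInstanceAs (Mono (kernel.ι _))
        epi_g := inferInstanceAs (Epi (cokernel.π (φ 0))) }
    haveI : Subsingleton (Coh.HH X (cokernel (φ 0)) 1) := by
      refine ih (fun i => φ i.succ ≫ cokernel.π (φ 0)) fun x e => ?_
      obtain ⟨e', rfl⟩ := QC70.surjective_stalkMapM_of_epi (cokernel.π (φ 0)) x e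
      obtain ⟨m, rfl⟩ := h x e'
      refine ⟨fun i => m i.succ, ?_⟩
      show QC70.stalkLinear (cokernel.π (φ 0)) x _ = _
      rw [map_sum, Fin.sum_univ_succ]
      show QC70.stalkMapM (cokernel.π (φ 0)) x (QC70.stalkMapM (φ 0) x (m 0)) + _ = _
      rw [← QC70.stalkMapM_comp, cokernel.condition, QC70.stalkMapM_zero, zero_add]
      exact Finset.sum_congr rfl fun i _ => (QC70.stalkMapM_comp _ _ _ _).symm
    refine subsingleton_of_forall_eq 0 fun t => ?_
    obtain ⟨v, rfl⟩ := ((exact_f_g A hseq 1) t).1 (Subsingleton.elim _ _)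
    rw [Subsingleton.elim v 0]
    exact map_zero _

/-- The stalkwise comparison, as a linear map of tensor products. -/
def tsL (x : X) (F M : X.Modules) : TensorProduct (X.presheaf.stalk x) (F.presheaf.stalk x) (M.presheaf.stalk x)
    →ₗ[X.presheaf.stalk x] (CohB1.tensorMod F M).presheaf.stalk x :=
  (DCK91.tensorStalk x F M).hom

omit [AlgebraicGeometry.IsNoetherian X] in
theorem tsL_germ (x : X) (F M : X.Modules) {U : X.Opens} (hU : x ∈ U) (a : Γ(F, U)) (l : Γ(M, U)) :
    tsL x F M (QC70.germM F U x hU a ⊗ₜ QC70.germM M U x hU l) =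
      QC70.germM (CohB1.tensorMod F M) U x hU (tm F M a l) :=
  KRR40.tensorStalk_germ x F M hU a l

omit [AlgebraicGeometry.IsNoetherian X] in
theorem tsL_surjective (x : X) (F M : X.Modules) : Function.Surjective (tsL x F M) :=
  (KRR40.bijective_tensorStalk_fun x F M).2

omit [AlgebraicGeometry.IsNoetherian X] in
theorem tmLeft_germ {F M : X.Modules} (s : Γ(F, ⊤)) (x : X) (m : M.presheaf.stalk x) :
    QC70.stalkMapM (Amp73.tmLeft s M) x m =
      tsL x F M (QC70.germM F ⊤ x trivial s ⊗ₜ m) := by
  obtain ⟨U, hxU, m', rfl⟩ := QC70.germM_exist m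
  rw [QC70.stalkMapM_germ, ← QC70.germM_res (le_top (a := U)) hxU s, tsL_germ]
  rfl

include A hdim in
/-- Tensoring any module with a generated coherent one preserves `H¹ = 0`. -/
theorem subsingleton_h1_tensor_any {F : X.Modules} (hF : Coh.IsCoh F) (hgg : Curv2.IsGloballyGenerated F)
    {M : X.Modules} (h1 : Subsingleton (Coh.HH X M 1)) :
    Subsingleton (Coh.HH X (CohB1.tensorMod F M) 1) := by
  obtain ⟨r, s, hs⟩ := exists_finite_span hF hgg
  refine subsingleton_h1_of_joint A hdim h1 r (fun i => Amp73.tmLeft (s i) M) fun x e => ?_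
  obtain ⟨t, rfl⟩ := tsL_surjective x F M e
  induction t using TensorProduct.induction_on with
  | zero => exact ⟨0, by simp [show ∀ φ : M ⟶ CohB1.tensorMod F M, QC70.stalkMapM φ x 0 = 0 from fun φ => map_zero (QC70.stalkLinear φ x)]⟩
  | add a b ha hb =>
    obtain ⟨p, hp⟩ := ha
    obtain ⟨q, hq⟩ := hb
    refine ⟨p + q, ?_⟩
    rw [map_add, hp, hq, ← Finset.sum_add_distrib]
    exact Finset.sum_congr rfl fun i _ => (map_add (QC70.stalkLinear (Amp73.tmLeft (s i) M) x) _ _).symm
  | tmul a m =>
    obtain ⟨c, hc⟩ := (Submodule.mem_span_range_iff_exists_fun _).1 ((hs x).ge (Submodule.mem_top (x := a)))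
    refine ⟨fun i => c i • m, ?_⟩
    rw [← hc, TensorProduct.sum_tmul, map_sum]
    refine Finset.sum_congr rfl fun i _ => ?_
    rw [tmLeft_germ, TensorProduct.smul_tmul]

include A hdim in
/-- A map with torsion cokernel, tensored, preserves `H¹ = 0`. -/
theorem subsingleton_h1_tensor_surjective_off {E F : X.Modules} (φ : E ⟶ F) {S : Set X} (hS : S.Finite)
    (hcl : ∀ x ∈ S, IsClosed ({x} : Set X)) (hφ : ∀ x, x ∉ S → Function.Surjective (QC70.stalkMapM φ x))
    {M : X.Modules} (h1 : Subsingleton (Coh.HH X (CohB1.tensorMod E M) 1)) :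
    Subsingleton (Coh.HH X (CohB1.tensorMod F M) 1) := by
  refine subsingleton_h1_of_surjective_off A hdim (twistMap φ M) hS hcl (fun x hx e => ?_) h1
  obtain ⟨t, rfl⟩ := tsL_surjective x F M e
  induction t using TensorProduct.induction_on with
  | zero => exact ⟨0, (map_zero (QC70.stalkLinear (twistMap φ M) x)).trans (map_zero _).symm⟩
  | add a b ha hb =>
    obtain ⟨p, hp⟩ := ha
    obtain ⟨q, hq⟩ := hb
    exact ⟨p + q, (map_add (QC70.stalkLinear (twistMap φ M) x) p q).trans
      ((congrArg₂ (· + ·) hp hq).trans (map_add _ _ _).symm)⟩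
  | tmul a m =>
    obtain ⟨a', rfl⟩ := hφ x hx a
    obtain ⟨U, hxU, a, rfl⟩ := QC70.germM_exist a'
    obtain ⟨V, hxV, n, rfl⟩ := QC70.germM_exist m
    have hx' : x ∈ U ⊓ V := ⟨hxU, hxV⟩
    refine ⟨QC70.germM (CohB1.tensorMod E M) (U ⊓ V) x hx'
      (tm E M (res E inf_le_left a) (res M inf_le_right n)), ?_⟩
    rw [QC70.stalkMapM_germ, twist_map_tm, ← tsL_germ, ← QC70.stalkMapM_germ, QC70.germM_res, QC70.germM_res]

end Groth.Agent.Curves2.H1Zero
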