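import Groth.Agent.Curves2.H1Zero.Induction
import Groth.Agent.Amp73.Pullback
import Groth.Agent.AbSch7.FieldH0
import Groth.Agent.Crv77.BaseChange
import Groth.Agent.MorE57.Descent
import Groth.Agent.GGDesc24.Basic
import Groth.Agent.Coh69.AffinePush

/-!
# Nef invertible modules on proper curves with `H¹(O) = 0` are globally generated

Over an algebraically closed field constants lift to every integral closed subscheme; the general
case follows by faithfully flat descent.
-/

set_option autoImplicit false
set_option linter.style.haveILetI false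
set_option backward.isDefEq.respectTransparency.types false

universe u

open CategoryTheory CategoryTheory.Limits AlgebraicGeometry TopologicalSpace Opposite

noncomputable section

namespace Groth.Agent.Curves2.H1Zero

open Groth.Agent.Crv77 Groth.Agent.Var76.LineBundle Groth.Agent.Var76.ZeroScheme

variable {k : Type u} [Field k] {X : Scheme.{u}} [X.Over (Spec (CommRingCat.of k))]
  [IsProper (X ↘ (Spec (CommRingCat.of k)))]

theorem h2Zero_of_proper (k : Type u) [Field k] {X : Scheme.{u}} [X.Over (Spec (CommRingCat.of k))]
    [IsProper (X ↘ (Spec (CommRingCat.of k)))] (hdim : topologicalKrullDim X ≤ 1) : H2Zero X := fun M hM =>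
  (curveCoh_of_proper k X hdim).vanish M hM 2 le_rfl

omit [IsProper (X ↘ (Spec (CommRingCat.of k)))] in
theorem isIntegral_ptCl (η : X) : IsIntegral (ptCl η).subscheme :=
  Curves2.isIntegral_vanishingIdeal ⟨closure {η}, isClosed_closure⟩ isIrreducible_singleton.closure

omit [IsProper (X ↘ (Spec (CommRingCat.of k)))] in
theorem subschemeι_genericPoint (η : X) [IsIntegral (ptCl η).subscheme] :
    (ptCl η).subschemeι (genericPoint (ptCl η).subscheme) = η := by
  have h1 : IsGenericPoint ((ptCl η).subschemeι (genericPoint (ptCl η).subscheme))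
      (closure (Set.range (ptCl η).subschemeι)) := by
    have h := (genericPoint_spec (ptCl η).subscheme).image (ptCl η).subschemeι.continuous
    rwa [Set.image_univ] at h
  have hr : Set.range (ptCl η).subschemeι = closure {η} :=
    Curves2.range_vanishingIdeal ⟨closure {η}, isClosed_closure⟩
  rw [hr, closure_closure] at h1
  exact h1.eq isGenericPoint_closure

/-- The hypothesis of nonnegative degree on integral one dimensional closed subschemes. -/
def Nef (k : Type u) [Field k] (X : Scheme.{u}) [X.Over (Spec (CommRingCat.of k))] (L : X.Modules) :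
    Prop :=
  ∀ J : X.IdealSheafData, IsIntegral J.subscheme → topologicalKrullDim J.subscheme = 1 →
    0 ≤ @Curv2.deg k _ J.subscheme ⟨J.subschemeι ≫ (X ↘ (Spec (CommRingCat.of k)))⟩
      ((Scheme.Modules.pullback J.subschemeι).obj L) 1

/-- A nef module has, on each integral closed subscheme, a section generating at its generic point. -/
theorem exists_section_genericPoint (hdim : topologicalKrullDim X ≤ 1)
    (h1 : Subsingleton (Coh.HH X (Coh.structureModule X) 1)) {L : X.Modules}
    (hL : PicF.IsInvertible L) (hnef : Nef k X L) (η : X) [IsIntegral (ptCl η).subscheme] :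
    ∃ t : Γ((Scheme.Modules.pullback (ptCl η).subschemeι).obj L, ⊤),
      genericPoint (ptCl η).subscheme ∈
        CohB1.genLocus _ (Var76.Frames.ofSection _ t) := by
  haveI := isNoetherian_of_proper k X
  let C := (ptCl η).subscheme
  let g : C ⟶ Spec (CommRingCat.of k) := (ptCl η).subschemeι ≫ (X ↘ (Spec (CommRingCat.of k)))
  letI : C.Over (Spec (CommRingCat.of k)) := ⟨g⟩
  haveI : IsProper (C ↘ Spec (CommRingCat.of k)) := inferInstanceAs (IsProper g)
  haveI : IsNoetherian C := isNoetherian_of_proper k C
  have hdC : topologicalKrullDim C ≤ 1 :=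
    ((ptCl η).subschemeι.isClosedEmbedding.isInducing.topologicalKrullDim_le).trans hdim
  let M := (Scheme.Modules.pullback (ptCl η).subschemeι).obj L
  have hM : PicF.IsInvertible M := Amp73.isInvertible_pullback _ hL
  suffices hne : ∃ t : Γ(M, ⊤), t ≠ 0 by
    obtain ⟨t, ht⟩ := hne
    refine ⟨t, by_contra fun hg => ht ?_⟩
    refine Ample.eq_zero_of_forall_notMem hM t (fun x hx hxg => hg ?_) Ample.exists_maximal
    rwa [hx _ (genericPoint_specializes x)]
  by_cases h0 : topologicalKrullDim C ≤ 0
  · haveI := Curves2.isAffine_of_dim_le_zero h0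
    obtain ⟨U, hxU, -, e, he⟩ := Mero90.exists_affine_frame hM (genericPoint C) ⊤ trivial
    have hU : U.1 = ⊤ := top_le_iff.1 fun y _ => by
      have hy : IsClosed ({genericPoint C} : Set C) := by
        by_contra hc
        have hne : closure ({genericPoint C} : Set C) ≠ {genericPoint C} := fun h => hc (h ▸ isClosed_closure)
        obtain ⟨z, hz, hzne⟩ : ∃ z ∈ closure ({genericPoint C} : Set C), z ≠ genericPoint C := by
          by_contra hall
          push Not at hall
          exact hne (Set.Subset.antisymm (fun z hz => hall z hz) subset_closure)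
        obtain ⟨y', hy', hy'z⟩ := exists_isClosed_specializes z
        have hlt : (⟨{y'}, isIrreducible_singleton, hy'⟩ : IrreducibleCloseds C) <
            ⟨closure {genericPoint C}, isIrreducible_singleton.closure, isClosed_closure⟩ := by
          refine lt_of_le_of_ne ?_ fun heq => hzne ?_
          · exact Set.singleton_subset_iff.2
              (specializes_iff_mem_closure.1 ((specializes_iff_mem_closure.2 hz).trans hy'z))
          · have h2 : closure ({genericPoint C} : Set C) = {y'} :=
              (congrArg (fun c : IrreducibleCloseds C => (c : Set C)) heq).symm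
            have h3 : z ∈ ({y'} : Set C) := h2 ▸ hz
            have h4 : genericPoint C ∈ ({y'} : Set C) := h2 ▸ subset_closure rfl
            exact (Set.mem_singleton_iff.1 h3).trans (Set.mem_singleton_iff.1 h4).symm
        exact not_lt_of_ge (h0) (lt_of_lt_of_le zero_lt_one (Order.one_le_krullDim_iff.2 ⟨_, _, hlt⟩))
      have hyη : y = genericPoint C := by
        have := genericPoint_specializes y
        have h5 : y ∈ closure ({genericPoint C} : Set C) := specializes_iff_mem_closure.1 this
        rwa [hy.closure_eq] at h5
      exact hyη ▸ hxU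
    refine ⟨res M hU.ge e, fun hz => ?_⟩
    have h6 : (1 : Γ(C, U.1)) • res M le_rfl e = (0 : Γ(C, U.1)) • res M le_rfl e := by
      rw [zero_smul, one_smul, Amp73.res_self]
      calc e = res M hU.le (res M hU.ge e) := by rw [res_res, Amp73.res_self]
        _ = 0 := by rw [hz]; exact map_zero _
    haveI : Nonempty U.1 := ⟨⟨_, hxU⟩⟩
    exact one_ne_zero ((he U.1 le_rfl).1 h6)
  · have hd1 := Curves2.eq_one_of_not_le_zero h0 hdC
    have hX := curveCoh_of_proper k C hdC
    have hdeg := hnef (ptCl η) inferInstance hd1
    have hC1 : Subsingleton (Coh.HH C (Coh.structureModule C) 1) := by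
      haveI : (Coh.structureModule C).IsQuasicoherent := (isCoh_structureModule (X := C)).1
      obtain ⟨e⟩ := Coh69.nonempty_hh_push (f := (ptCl η).subschemeι) (Coh.structureModule C) 1
      haveI := subsingleton_h1_quotMod k (h2Zero_of_proper k hdim) h1 (ptCl η)
      exact e.injective.subsingleton
    have hMc := isCoh_of_isInvertible hM
    have e1 := hX.euler_eq hMc
    have e2 := hX.euler_eq (isCoh_structureModule (X := C))
    simp only [Curv2.deg, Nat.cast_one, one_mul] at hdeg
    rw [e1, e2] at hdeg
    simp only [Crv77.h] at hdeg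
    rw [Module.finrank_zero_of_subsingleton (M := Coh.HH C (Coh.structureModule C) 1)] at hdeg
    haveI := hX.finite _ (isCoh_structureModule (X := C)) 0
    haveI : Nontrivial (Coh.HH C (Coh.structureModule C) 0) := by
      refine ⟨⟨(sec _).symm (1 : Γ(C, ⊤)), 0, fun h => ?_⟩⟩
      have h' := congrArg (sec (Coh.structureModule C)) h
      rw [AddEquiv.apply_symm_apply, map_zero] at h'
      exact one_ne_zero (α := Γ(C, ⊤)) h'
    have hp : 0 < Module.finrank k (Coh.HH C (Coh.structureModule C) 0) := Module.finrank_pos
    have hq : 0 < Module.finrank k (Coh.HH C M 0) := by omega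
    haveI := Module.nontrivial_of_finrank_pos hq
    obtain ⟨v, hv⟩ := exists_ne (0 : Coh.HH C M 0)
    exact ⟨sec M v, fun h => hv ((sec M).injective (h.trans (map_zero _).symm))⟩

omit [X.Over (Spec (CommRingCat.of k))] [IsProper (X ↘ (Spec (CommRingCat.of k)))] in
/-- A reduced irreducible scheme maps into the closure of the image of its generic point. -/
theorem vanishingIdeal_le_ker {C : Scheme.{u}} [IsIntegral C] (φ : C ⟶ X) :
    ptCl (φ (genericPoint C)) ≤ φ.ker := by
  refine Scheme.IdealSheafData.le_ofIdeals_iff.2 fun U a ha => ?_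
  refine eq_zero_of_basicOpen_eq_bot _ (eq_bot_iff.2 fun z hz => ?_)
  have h := ((genericPoint_spec C).mem_open_set_iff (C.basicOpen ((φ.app U.1).hom a)).2).2
    ⟨z, trivial, hz⟩
  rw [← Scheme.preimage_basicOpen] at h
  exact ((mem_vanishingIdeal_closure_iff U.2 a).1 ha) h

end Groth.Agent.Curves2.H1Zero
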