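import Groth.Agent.Curves2.H1Zero.AnyModule
import Groth.Agent.GGDesc24.Basic
import Groth.Agent.EGA73.Tensor
import Groth.Agent.Cons51.ClosedPoints

/-!
# Operations on generated modules over a curve with `H¹(O) = 0`
-/

set_option autoImplicit false
set_option linter.style.haveILetI false
set_option backward.isDefEq.respectTransparency.types false

universe u

open CategoryTheory CategoryTheory.Limits AlgebraicGeometry TopologicalSpace Opposite

noncomputable section

namespace Groth.Agent.Curves2.H1Zero

open Groth.Agent.Crv77 Groth.Agent.Var76.LineBundle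
open Groth.Agent.Amp73 (tm)

variable {X : Scheme.{u}}

theorem eq_zero_of_stalkMapM {M N : X.Modules} (q : M ⟶ N)
    (h : ∀ x (e : M.presheaf.stalk x), QC70.stalkMapM q x e = 0) : q = 0 :=
  Scheme.Modules.hom_ext _ _ fun U => by
    ext s
    refine TopCat.Presheaf.section_ext ⟨N.presheaf, N.isSheaf⟩ U _ _ fun x hx => ?_
    show QC70.germM N U x hx (q.app U s) = QC70.germM N U x hx 0
    rw [← QC70.stalkMapM_germ, h, QC70.germM_zero]

/-- Tensor products of generated coherent modules are generated. -/
theorem isGloballyGenerated_tensor [CompactSpace X] {F G : X.Modules} (hF : Coh.IsCoh F)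
    (hgF : Curv2.IsGloballyGenerated F) (hgG : Curv2.IsGloballyGenerated G) :
    Curv2.IsGloballyGenerated (CohB1.tensorMod F G) := by
  obtain ⟨r, s, hs⟩ := exists_finite_span hF hgF
  rw [GGDesc24.isGloballyGenerated_iff] at hgG ⊢
  intro T q hq
  refine eq_zero_of_stalkMapM q fun x e => ?_
  obtain ⟨t, rfl⟩ := tsL_surjective x F G e
  have h : (QC70.stalkLinear q x).comp (tsL x F G) = 0 := by
    refine TensorProduct.ext' fun a m => ?_
    show QC70.stalkLinear q x (tsL x F G (a ⊗ₜ m)) = 0
    obtain ⟨c, hc⟩ := (Submodule.mem_span_range_iff_exists_fun _).1 ((hs x).ge (Submodule.mem_top (x := a)))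
    rw [← hc, TensorProduct.sum_tmul, map_sum, map_sum]
    refine Finset.sum_eq_zero fun i _ => ?_
    rw [← TensorProduct.smul_tmul', map_smul, map_smul, ← tmLeft_germ]
    show c i • QC70.stalkMapM q x (QC70.stalkMapM (Amp73.tmLeft (s i) G) x m) = 0
    rw [← QC70.stalkMapM_comp, hgG _ (Amp73.tmLeft (s i) G ≫ q) fun w => hq _, QC70.stalkMapM_zero, smul_zero]
  exact LinearMap.congr_fun h t

variable (A : Type u) [CommRing A] [X.Over (Spec (CommRingCat.of A))] [IsNoetherian X]
  (hdim : topologicalKrullDim X ≤ 1)

include A hdim in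
/-- With `H¹(O) = 0`, generated coherent modules have `H¹ = 0`. -/
theorem subsingleton_h1_of_gg (hO : Subsingleton (Coh.HH X (Coh.structureModule X) 1)) {F : X.Modules}
    (hF : Coh.IsCoh F) (hgg : Curv2.IsGloballyGenerated F) : Subsingleton (Coh.HH X F 1) := by
  haveI := subsingleton_h1_tensor_any A hdim hF hgg hO
  exact (hEquiv A (EGA73.tensUnitRight F) 1).surjective.subsingleton

theorem finite_support {C : X.Modules} (hC : Coh.IsCoh C)
    (h : ∀ x ∈ CohB1.support C, IsClosed ({x} : Set X)) : (CohB1.support C).Finite := by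
  haveI := hC.1
  haveI := hC.2
  exact Cons51.finite_of_closed_points (QC70.isClosed_support C) h

include A hdim in
/-- A coherent module receiving a map with finite cokernel from a generated one is generated. -/
theorem isGloballyGenerated_of_torsion_cokernel (hO : Subsingleton (Coh.HH X (Coh.structureModule X) 1))
    {E F : X.Modules} (φ : E ⟶ F) (hE : Coh.IsCoh E) (hF : Coh.IsCoh F)
    (hgg : Curv2.IsGloballyGenerated E) (htors : ∀ x ∈ CohB1.support (cokernel φ), IsClosed ({x} : Set X)) :
    Curv2.IsGloballyGenerated F := by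
  have hI : Subsingleton (Coh.HH X (Abelian.image φ) 1) :=
    subsingleton_h1_of_surjective_off A hdim (Abelian.factorThruImage φ) Set.finite_empty (by simp)
      (fun x _ => QC70.surjective_stalkMapM_of_epi _ x) (subsingleton_h1_of_gg A hdim hO hE hgg)
  have hseq : (ShortComplex.mk (Abelian.image.ι φ) (cokernel.π φ) (kernel.condition _)).ShortExact :=
    { exact := ShortComplex.exact_of_f_is_kernel _ (kernelIsKernel _)
      mono_f := inferInstanceAs (Mono (kernel.ι _))
      epi_g := inferInstanceAs (Epi (cokernel.π φ)) }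
  have hC := QC70.isCoh_cokernel φ hE.1 hF
  haveI := hC.1
  haveI := hC.2
  have hsupp : SuppIn (cokernel φ) (CohB1.support (cokernel φ)) := fun x hx =>
    QC70.notMem_support_iff.1 hx
  have hfin := finite_support hC htors
  rw [GGDesc24.isGloballyGenerated_iff] at hgg ⊢
  intro T q hq
  have h0 : φ ≫ q = 0 := hgg _ _ fun t => hq (φ.app ⊤ t)
  have h1 : cokernel.desc φ q h0 = 0 := by
    refine Scheme.Modules.hom_ext _ _ fun U => ?_
    ext s
    obtain ⟨t, rfl⟩ := hsupp.surjective_res hfin htors (le_top (a := U)) s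
    obtain ⟨v, rfl⟩ := surjective_app_top_of_h1 A hseq hI t
    show (cokernel.desc φ q h0).app U (QC70.res _ _ ((cokernel.π φ).app ⊤ v)) = 0
    rw [QC70.app_res]
    refine Eq.trans (congrArg (QC70.res T _) ?_) (map_zero _)
    exact (congr(Scheme.Modules.Hom.app $(cokernel.π_desc φ q h0) ⊤ v)).trans (hq v)
  rw [← cokernel.π_desc φ q h0, h1, comp_zero]

end Groth.Agent.Curves2.H1Zero
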