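import Groth.Agent.Curves2.H1Zero.Spans
import Groth.Agent.Curves2.RelVA.Charts
import Groth.Agent.EGA73.ImmersionPn
import Groth.Agent.GenAff57.Ample
import Groth.Agent.Amp73.Ext
import Groth.Agent.Serre71.Finite

/-!
# Ample modules generated in degree one are very ample
-/

set_option autoImplicit false
set_option linter.style.haveILetI false
set_option backward.isDefEq.respectTransparency.types false

universe u

open CategoryTheory CategoryTheory.Limits AlgebraicGeometry TopologicalSpace Opposite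

noncomputable section

namespace Groth.Agent.Curves2.H1Zero

open Groth.Agent.Crv77 Groth.Agent.Var76.LineBundle Groth.Agent.Var76.ZeroScheme
open Groth.Agent.Amp73 (tm epow)

variable {X : Scheme.{u}} {L : X.Modules}

/-- Multiplication generates: the sections of `L^{n+1}` are sums of products. -/
def DegOneGen (L : X.Modules) : Prop :=
  ∀ n : ℕ, 1 ≤ n → AddSubgroup.closure
    {t | ∃ (m : Γ(CohB1.tensorPow L n, ⊤)) (s : Γ(L, ⊤)), t = tm (CohB1.tensorPow L n) L m s} = ⊤

/-- The coordinate of a section in a frame lies in the maximal ideal at `z`. -/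
def CoordIn {M : X.Modules} {U : X.Opens} (e : Γ(M, U)) (z : X) (hz : z ∈ U) (t : Γ(M, ⊤)) : Prop :=
  ∀ c : Γ(X, U), c • e = res M le_top t → ¬ IsUnit (X.presheaf.germ U z hz c)

theorem coordIn_of_notMem {U : X.Opens} {e : Γ(L, U)} (he : IsFrame L U e) (z : X) (hz : z ∈ U)
    (t : Γ(L, ⊤)) (h : z ∉ CohB1.genLocus L (Var76.Frames.ofSection L t)) : CoordIn e z hz t := by
  intro c hc hu
  refine h ((Amp73.genLocus_inf_eq_basicOpen (Var76.Frames.ofSection L t) he (c := c) ?_).ge
    ((X.mem_basicOpen c z hz).2 hu)).1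
  rw [Var76.Frames.val_ofSection]
  exact hc

/-- Coordinates of sums of sections lie in any subgroup containing those of the summands. -/
theorem coord_mem_of_closure {M : X.Modules} {U : X.Opens} {f : Γ(M, U)} (hf : IsFrame M U f)
    (P : AddSubgroup Γ(X, U)) {S : Set Γ(M, ⊤)}
    (hS : ∀ t ∈ S, ∀ c : Γ(X, U), c • f = res M le_top t → c ∈ P)
    {t : Γ(M, ⊤)} (ht : t ∈ AddSubgroup.closure S) (c : Γ(X, U)) (hc : c • f = res M le_top t) :
    c ∈ P := by
  induction ht using AddSubgroup.closure_induction generalizing c with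
  | mem t h => exact hS t h c hc
  | zero =>
    have h0 : c = 0 := by
      refine (hf U le_rfl).1 ?_
      dsimp only
      rw [Amp73.res_self, hc, zero_smul]
      exact map_zero _
    rw [h0]
    exact P.zero_mem
  | add t t' _ _ h h' =>
    obtain ⟨a, ha⟩ := (hf U le_rfl).2 (res M le_top t)
    obtain ⟨a', ha'⟩ := (hf U le_rfl).2 (res M le_top t')
    dsimp only at ha ha'
    rw [Amp73.res_self] at ha ha'
    have h0 : c = a + a' := by
      refine (hf U le_rfl).1 ?_
      dsimp only
      rw [Amp73.res_self, hc, Amp73.res_add, ← ha, ← ha', add_smul]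
    rw [h0]
    exact P.add_mem (h a ha) (h' a' ha')
  | neg t _ h =>
    have h0 : (-c) • f = res M le_top t := by
      rw [neg_smul, hc, show res M (le_top : U ≤ ⊤) (-t) = -res M le_top t from map_neg _ _, neg_neg]
    simpa using P.neg_mem (h (-c) h0)

/-- The coordinate of a product. -/
theorem coord_tm {U : X.Opens} (e : Γ(L, U)) (n : ℕ) {b d : Γ(X, U)}
    {m : Γ(CohB1.tensorPow L n, ⊤)} {s : Γ(L, ⊤)} (hb : b • epow e n = res _ le_top m)
    (hd : d • e = res L le_top s) :
    (b * d) • epow e (n + 1) =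
      res (CohB1.tensorPow L (n + 1)) le_top (tm (CohB1.tensorPow L n) L m s) := by
  show (b * d) • tm (CohB1.tensorPow L n) L (epow e n) e =
    res (CohB1.tensorMod (CohB1.tensorPow L n) L) le_top (tm (CohB1.tensorPow L n) L m s)
  rw [Amp73.res_tm, ← hb, ← hd, Amp73.tm_smul]

/-- Some section generates at each point. -/
theorem exists_gen_of_degOne (hL : CohB1.IsAmple L) (hng : DegOneGen L) (z : X) :
    ∃ s : Γ(L, ⊤), z ∈ CohB1.genLocus L (Var76.Frames.ofSection L s) := by
  by_contra hcon
  push Not at hcon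
  obtain ⟨_, ⟨n, σ, rfl⟩, hzG, -, -⟩ := Amp73.exists_affine_genSet_le hL z ⊤ trivial
  obtain ⟨U, hzU, -, e, he⟩ := Mero90.exists_affine_frame hL.1 z ⊤ trivial
  have key : ∀ t : Γ(CohB1.tensorPow L (n + 1), ⊤), CoordIn (epow e (n + 1)) z hzU t := by
    rcases n with - | n
    · intro t
      haveI := isIso_unitTm hL.1
      obtain ⟨y, rfl⟩ := ((ConcreteCategory.isIso_iff_bijective ((unitTm L).app ⊤)).1 inferInstance).2 t
      intro c hc
      refine coordIn_of_notMem he z hzU y (hcon y) c ?_
      refine ((ConcreteCategory.isIso_iff_bijective ((unitTm L).app U.1)).1 inferInstance).1 ?_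
      rw [Mero90.app_res, Scheme.Modules.Hom.app_smul, unitTm_app]
      exact hc
    · intro t
      have ht : t ∈ AddSubgroup.closure {t | ∃ (m : Γ(CohB1.tensorPow L (n + 1), ⊤)) (s : Γ(L, ⊤)),
          t = tm (CohB1.tensorPow L (n + 1)) L m s} := (hng (n + 1) n.succ_pos).ge trivial
      have hfr := Amp73.isFrame_epow he (n + 1 + 1)
      intro c hc
      refine coord_mem_of_closure hfr
        ((IsLocalRing.maximalIdeal _).comap (X.presheaf.germ U.1 z hzU).hom).toAddSubgroup ?_ ht c hc
      rintro _ ⟨m, s, rfl⟩ c hc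
      obtain ⟨b, hb⟩ := (Amp73.isFrame_epow he (n + 1) U.1 le_rfl).2 (res _ le_top m)
      obtain ⟨d, hd⟩ := (he U.1 le_rfl).2 (res L le_top s)
      dsimp only at hb hd
      rw [Amp73.res_self] at hb hd
      have hcd : c = b * d := by
        refine (hfr U.1 le_rfl).1 ?_
        dsimp only
        rw [Amp73.res_self]
        exact hc.trans (coord_tm e (n + 1) hb hd).symm
      show X.presheaf.germ U.1 z hzU c ∈ IsLocalRing.maximalIdeal _
      rw [hcd, map_mul]
      exact Ideal.mul_mem_left _ _ (coordIn_of_notMem he z hzU s (hcon s) d hd)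
  obtain ⟨c, hc⟩ := Amp73.exists_coord σ (Amp73.isFrame_epow he (n + 1))
  refine key (val _ σ ⊤) c (by rw [res_val]; exact hc) ?_
  exact (X.mem_basicOpen c z hzU).1
    ((Amp73.genLocus_inf_eq_basicOpen σ (Amp73.isFrame_epow he (n + 1)) hc).le ⟨hzG, hzU⟩)

variable (A : Type u) [CommRing A] [IsNoetherianRing A]

/-- An ample module generated in degree one on a proper scheme over a Noetherian ring is very ample. -/
theorem isRelVeryAmplePn_of_degOne (f : X ⟶ Spec (CommRingCat.of A)) [IsProper f]
    (hL : CohB1.IsAmple L) (hng : DegOneGen L) : RelAmple.IsRelVeryAmplePn f L := by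
  classical
  letI : X.Over (Spec (CommRingCat.of A)) := ⟨f⟩
  haveI : IsProper (X ↘ Spec (CommRingCat.of A)) := ‹IsProper f›
  haveI : CompactSpace X := hL.2.1
  haveI := Amp73.quasiSeparatedSpace_of_isAmple hL
  haveI : IsLocallyNoetherian X := LocallyOfFiniteType.isLocallyNoetherian f
  haveI : Module.Finite A (Coh.HH X L 0) :=
    Serre71.finite_hh_of_isProper A L (Amp73.isCoh_of_isInvertible hL.1) 0
  obtain ⟨r, g, hg⟩ := Module.Finite.exists_fin (R := A) (M := Coh.HH X L 0)
  let u : ULift.{u} (Fin r) → ProjUP.Γm L := fun j => sec L (g j.down)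
  have hcomb : ∀ v : Γ(L, ⊤), ∃ a : Fin r → A,
      v = ∑ i, (show Γ(X, ⊤) from Coh.toGlobal (X ↘ Spec (CommRingCat.of A)) (a i)) • sec L (g i) := by
    intro v
    obtain ⟨a, ha⟩ := (Submodule.mem_span_range_iff_exists_fun A).1
      (hg.ge (show (sec L).symm v ∈ (⊤ : Submodule A (Coh.HH X L 0)) from trivial))
    refine ⟨a, ?_⟩
    have h := congrArg (sec L) ha
    rw [AddEquiv.apply_symm_apply, map_sum] at h
    exact h.symm.trans (Finset.sum_congr rfl fun i _ => sec_smul A L (a i) (g i))
  refine EGA73.ImmersionPn.isRelVeryAmplePn_of_sections f L hL.1 u fun z => ?_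
  have hz : ∃ j, z ∈ CohB1.genLocus L (Var76.Frames.ofSection L (u j)) := by
    obtain ⟨s, hs⟩ := exists_gen_of_degOne hL hng z
    by_contra hcon
    push Not at hcon
    obtain ⟨U, hzU, -, e, he⟩ := Mero90.exists_affine_frame hL.1 z ⊤ trivial
    obtain ⟨c, hc⟩ := Amp73.exists_coord (Var76.Frames.ofSection L s) he
    have hu := (X.mem_basicOpen c z hzU).1 ((Amp73.genLocus_inf_eq_basicOpen _ he hc).le ⟨hs, hzU⟩)
    obtain ⟨a, ha⟩ := hcomb s
    choose d hd using fun i => (he U.1 le_rfl).2 (res L le_top (sec L (g i)))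
    dsimp only at hd
    simp only [Amp73.res_self] at hd
    have hc' : c = ∑ i, resF (le_top : U.1 ≤ ⊤)
        (show Γ(X, ⊤) from Coh.toGlobal (X ↘ Spec (CommRingCat.of A)) (a i)) * d i := by
      refine (he U.1 le_rfl).1 ?_
      dsimp only
      rw [Amp73.res_self, hc, Var76.Frames.val_ofSection, ha, Finset.sum_smul]
      refine (map_sum (L.presheaf.map (homOfLE (le_top : U.1 ≤ ⊤)).op).hom _ _).trans ?_
      refine Finset.sum_congr rfl fun i _ => ?_
      rw [mul_smul, hd]
      exact res_smul L _ _ _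
    have h2 : (X.presheaf.germ U.1 z hzU c) ∈ IsLocalRing.maximalIdeal _ := by
      rw [hc', map_sum]
      refine Ideal.sum_mem _ fun i _ => ?_
      rw [map_mul]
      exact Ideal.mul_mem_left _ _ (coordIn_of_notMem he z hzU _ (hcon ⟨i⟩) (d i) (hd i))
    exact h2 hu
  obtain ⟨j, hj⟩ := hz
  let σ := Var76.Frames.ofSection L (u j)
  let G := CohB1.genLocus L σ
  have hGa : IsAffineOpen G := GenAff57.isAffineOpen_genLocus f hL σ
  refine ⟨j, ⊤, isAffineOpen_top _, le_top, hj, hGa, ?_⟩
  set R := Subring.closure (Set.range (f.appLE ⊤ G le_top) ∪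
    {a | ∃ j', a • res L (le_top : G ≤ ⊤) (u j) = res L (le_top : G ≤ ⊤) (u j')}) with hR
  have hRA : ∀ a : A, resF (le_top : G ≤ ⊤)
      (show Γ(X, ⊤) from Coh.toGlobal (X ↘ Spec (CommRingCat.of A)) a) ∈ R := fun a =>
    Subring.subset_closure (Or.inl ⟨(Scheme.ΓSpecIso (CommRingCat.of A)).inv a, rfl⟩)
  -- all ratios
  have hratio : ∀ (v : Γ(L, ⊤)) (b : Γ(X, G)),
      b • res L (le_top : G ≤ ⊤) (u j) = res L le_top v → b ∈ R := by
    intro v b hb
    obtain ⟨a, ha⟩ := hcomb v
    choose d hd using fun i => RelVA.exists_ratio (u j) (sec L (g i)) (le_refl G)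
    have hbd : b = ∑ i, resF (le_top : G ≤ ⊤)
        (show Γ(X, ⊤) from Coh.toGlobal (X ↘ Spec (CommRingCat.of A)) (a i)) * d i := by
      refine RelVA.ratio_unique (u j) (le_refl G) _ _ ?_
      rw [hb, ha, Finset.sum_smul]
      refine (map_sum (L.presheaf.map (homOfLE (le_top : G ≤ ⊤)).op).hom _ _).trans ?_
      refine Finset.sum_congr rfl fun i _ => ?_
      rw [mul_smul, hd]
      exact res_smul L _ _ _
    rw [hbd]
    exact Subring.sum_mem _ fun i _ => Subring.mul_mem _ (hRA _)
      (Subring.subset_closure (Or.inr ⟨⟨i⟩, hd i⟩))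
  let e : Γ(L, G) := res L (le_top : G ≤ ⊤) (u j)
  have he : IsFrame L G e := RelVA.isFrame_res_genLocus (u j)
  -- global functions
  have hglob : ∀ a : Γ(X, ⊤), resF (le_top : G ≤ ⊤) a ∈ R := fun a => by
    refine hratio (a • u j) _ ?_
    rw [res_smul]
  have key : ∀ (n : ℕ) (t : Γ(CohB1.tensorPow L n, ⊤)) (b : Γ(X, G)),
      b • epow e n = res _ le_top t → b ∈ R := by
    intro n
    induction n with
    | zero =>
      intro t b hb
      have h1 : b = resF (le_top : G ≤ ⊤) (show Γ(X, ⊤) from t) := by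
        refine Eq.trans ?_ hb
        exact (mul_one b).symm
      rw [h1]
      exact hglob _
    | succ n ih =>
      intro t b hb
      rcases Nat.eq_zero_or_pos n with rfl | hn
      · haveI := isIso_unitTm hL.1
        obtain ⟨y, rfl⟩ := ((ConcreteCategory.isIso_iff_bijective ((unitTm L).app ⊤)).1 inferInstance).2 t
        refine hratio y b ?_
        refine ((ConcreteCategory.isIso_iff_bijective ((unitTm L).app G)).1 inferInstance).1 ?_
        rw [Mero90.app_res, Scheme.Modules.Hom.app_smul, unitTm_app]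
        exact hb
      have hfr := Amp73.isFrame_epow he (n + 1)
      have ht : t ∈ AddSubgroup.closure {t | ∃ (m : Γ(CohB1.tensorPow L n, ⊤)) (s : Γ(L, ⊤)),
          t = tm (CohB1.tensorPow L n) L m s} := (hng n hn).ge trivial
      refine coord_mem_of_closure hfr R.toAddSubgroup ?_ ht b hb
      rintro _ ⟨m, s, rfl⟩ b hb
      obtain ⟨c, hc⟩ := (Amp73.isFrame_epow he n G le_rfl).2 (res _ le_top m)
      dsimp only at hc
      rw [Amp73.res_self] at hc
      obtain ⟨d, hd⟩ := RelVA.exists_ratio (u j) s (le_refl G)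
      have hbd : b = c * d := by
        refine (hfr G le_rfl).1 ?_
        dsimp only
        rw [Amp73.res_self]
        exact hb.trans (coord_tm e n hc hd).symm
      show b ∈ R
      rw [hbd]
      exact Subring.mul_mem _ (ih m c hc) (hratio s d hd)
  refine eq_top_iff.2 fun a _ => ?_
  obtain ⟨n₀, hext⟩ := Amp73.exists_tw_extend hL.1 σ (F := Coh.structureModule X)
    isCoh_structureModule.1 (a : Γ(Coh.structureModule X, G))
  obtain ⟨t, ht⟩ := hext n₀ le_rfl
  have hM := EGA73.isInvertible_tensorPow hL.1 n₀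
  haveI := isIso_unitTm hM
  obtain ⟨y, rfl⟩ := ((ConcreteCategory.isIso_iff_bijective
    ((unitTm (CohB1.tensorPow L n₀)).app ⊤)).1 inferInstance).2 t
  refine key n₀ y a ?_
  refine ((ConcreteCategory.isIso_iff_bijective ((unitTm (CohB1.tensorPow L n₀)).app G)).1 inferInstance).1 ?_
  rw [Mero90.app_res, ht, Scheme.Modules.Hom.app_smul, unitTm_app, Amp73.tw, ← Amp73.tm_smul_left]
  rw [show val L σ G = e from Var76.Frames.val_ofSection L (u j) G]
  exact congrArg (fun q => tm (Coh.structureModule X) _ q (epow e n₀)) (mul_one a)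

end Groth.Agent.Curves2.H1Zero
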