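import Groth.Agent.Curves2.H1Zero.Relative

/-!
# Relative nef modules: `H¹ = 0` by Nakayama, generation at closed points
-/

set_option autoImplicit false
set_option linter.style.haveILetI false
set_option backward.isDefEq.respectTransparency.types false

universe u

open CategoryTheory CategoryTheory.Limits AlgebraicGeometry TopologicalSpace Opposite

noncomputable section

namespace Groth.Agent.Curves2.H1Zero

open Groth.Agent.Crv77 Groth.Agent.Var76.LineBundle Groth.Agent.Var76.ZeroScheme
open Groth.Agent.Amp73 (tm)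

variable (A : Type u) [CommRing A] [IsNoetherianRing A] {X : Scheme.{u}}
  [X.Over (Spec (CommRingCat.of A))]

omit [IsNoetherianRing A] in
theorem extIdeal_ideal (m : Ideal A) (W : X.affineOpens) :
    (extIdeal A (X := X) m).ideal W =
      m.map ((Blow97.res W.1).comp (Blow97.gam (X ↘ Spec (CommRingCat.of A)))) :=
  Blow97.ideal_comap_idealSheaf _ m W

omit [IsNoetherianRing A] in
/-- The sections of the extended ideal given by elements of `m`. -/
theorem exists_theta (m : Ideal A) {g : A} (hg : g ∈ m) :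
    ∃ θ : Γ(ClSub.idealMod (extIdeal A (X := X) m), ⊤),
      (ClSub.idealModι (extIdeal A (X := X) m)).app ⊤ θ = Blow97.gam (X ↘ Spec (CommRingCat.of A)) g := by
  refine QC70.exists_kernel_app_eq (ClSub.toSubscheme (extIdeal A (X := X) m)) ⊤
    (Blow97.gam (X ↘ Spec (CommRingCat.of A)) g : Γ(Coh.structureModule X, ⊤)) ?_
  refine eq_of_locally _ _ _ fun p _ => ?_
  obtain ⟨W, hW, hpW, -⟩ := exists_isAffineOpen_mem_and_subset (x := p) (U := (⊤ : X.Opens)) trivial
  refine ⟨W, le_top, hpW, ?_⟩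
  rw [← Mero90.app_res]
  refine Eq.trans ?_ (map_zero _).symm
  refine (toSubscheme_eq_zero_iff _ hW _).2 ?_
  rw [extIdeal_ideal]
  exact Ideal.mem_map_of_mem _ hg

omit [IsNoetherianRing A] in
/-- The maps `L → mO ⊗ L` given by generators of `m` span at every stalk. -/
theorem spans_stalk {L : X.Modules} (hL : PicF.IsInvertible L) (m : Ideal A) {r : ℕ} (g : Fin r → A)
    (hg : Ideal.span (Set.range g) = m)
    (θ : Fin r → Γ(ClSub.idealMod (extIdeal A (X := X) m), ⊤))
    (hθ : ∀ i, (ClSub.idealModι (extIdeal A (X := X) m)).app ⊤ (θ i) =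
      Blow97.gam (X ↘ Spec (CommRingCat.of A)) (g i))
    (x : X) (e : (CohB1.tensorMod (ClSub.idealMod (extIdeal A (X := X) m)) L).presheaf.stalk x) :
    ∃ v : Fin r → L.presheaf.stalk x, e = ∑ i, QC70.stalkMapM (Amp73.tmLeft (θ i) L) x (v i) := by
  obtain ⟨Z, hxZ, z, rfl⟩ := QC70.germM_exist e
  obtain ⟨W, hxW, hWZ, f, hf⟩ := Mero90.exists_affine_frame hL x Z hxZ
  obtain ⟨n, hn⟩ := Amp73.exists_eq_tm_frame (L := ClSub.idealMod (extIdeal A (X := X) m)) hf
    (le_refl W.1) (res _ hWZ z)
  rw [Amp73.res_self] at hn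
  let a : Γ(X, W.1) := (ClSub.idealModι (extIdeal A (X := X) m)).app W.1 n
  have ha : a ∈ (extIdeal A (X := X) m).ideal W :=
    (toSubscheme_eq_zero_iff _ W.2 a).1
      (congrArg (fun φ : ClSub.idealMod (extIdeal A (X := X) m) ⟶
        ClSub.quotMod (extIdeal A (X := X) m) => φ.app W.1 n)
        (kernel.condition (ClSub.toSubscheme (extIdeal A (X := X) m))))
  rw [extIdeal_ideal, ← hg, Ideal.map_span, ← Set.range_comp] at ha
  obtain ⟨c, hc⟩ := Ideal.mem_span_range_iff_exists_fun.1 ha
  have hinj : Function.Injective ((ClSub.idealModι (extIdeal A (X := X) m)).app W.1) :=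
    QC70.app_injective_of_mono (kernel.ι (ClSub.toSubscheme (extIdeal A (X := X) m))) W.1
  have hn' : n = ∑ i, c i • res _ (le_top : W.1 ≤ ⊤) (θ i) := by
    refine hinj ?_
    refine Eq.trans ?_ (map_sum _ _ _).symm
    refine Eq.trans hc.symm (Finset.sum_congr rfl fun i _ => ?_)
    rw [Scheme.Modules.Hom.app_smul, Mero90.app_res, hθ]
    rfl
  refine ⟨fun i => QC70.germM L W.1 x hxW (c i • f), ?_⟩
  have h1 : ∀ i, QC70.stalkMapM (Amp73.tmLeft (θ i) L) x (QC70.germM L W.1 x hxW (c i • f)) =
      QC70.germM _ W.1 x hxW (tm _ L (c i • res _ (le_top : W.1 ≤ ⊤) (θ i)) f) := fun i => by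
    rw [QC70.stalkMapM_germ, Amp73.tmLeft_app, Amp73.tm_smul_right, Amp73.tm_smul_left]
  refine Eq.trans ?_ (Finset.sum_congr rfl fun i _ => (h1 i).symm)
  rw [← QC70.germM_res hWZ hxW z]
  let T : Γ(ClSub.idealMod (extIdeal A (X := X) m), W.1) →+
      Γ(CohB1.tensorMod (ClSub.idealMod (extIdeal A (X := X) m)) L, W.1) :=
    AddMonoidHom.mk' (fun y => tm _ L y f) (fun y y' => Amp73.tm_add_left y y' f)
  let Gm : Γ(CohB1.tensorMod (ClSub.idealMod (extIdeal A (X := X) m)) L, W.1) →+
      (CohB1.tensorMod (ClSub.idealMod (extIdeal A (X := X) m)) L).presheaf.stalk x :=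
    AddMonoidHom.mk' (QC70.germM _ W.1 x hxW) (fun y y' => QC70.germM_add hxW y y')
  refine Eq.trans ?_ (map_sum (Gm.comp T) _ _)
  show Gm (res _ hWZ z) = Gm (T (∑ i, c i • res _ (le_top : W.1 ≤ ⊤) (θ i)))
  rw [← hn', ← hn]
  rfl

variable [IsProper (X ↘ Spec (CommRingCat.of A))]
  (hfib : ∀ y : ↥(Spec (CommRingCat.of A)),
    topologicalKrullDim ↥((X ↘ Spec (CommRingCat.of A)).fiber y) ≤ 1)
  (h1 : Subsingleton (Coh.HH X (Coh.structureModule X) 1))
  {L : X.Modules} (hL : PicF.IsInvertible L) (hnef : RelNef A X (X ↘ Spec (CommRingCat.of A)) L)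

include hfib h1 hL hnef in
theorem subsingleton_h1_relative : Subsingleton (Coh.HH X L 1) := by
  let f := X ↘ Spec (CommRingCat.of A)
  haveI : IsLocallyNoetherian X := LocallyOfFiniteType.isLocallyNoetherian f
  have h2 := h2Zero_relative A f hfib
  have hLc := Amp73.isCoh_of_isInvertible hL
  haveI : Module.Finite A (Coh.HH X L 1) := Serre71.finite_hh_of_isProper A L hLc 1
  refine subsingleton_of_smul_top_eq A _ fun m hm => ?_
  obtain ⟨r, g, hg⟩ := Submodule.fg_iff_exists_fin_generating_family.1 (IsNoetherian.noetherian m)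
  choose θ hθ using fun i => exists_theta A (X := X) m (g := g i)
    (hg ▸ Submodule.subset_span (Set.mem_range_self i))
  haveI := isIso_unitTm hL
  have hF1 := (fibre_case A hfib h1 hL hnef m).1
  obtain ⟨h0, hT⟩ := exists_tR_shortExact (O := X.sheaf) L
    (locally_flat_of_rank_one (Mero90.isFinLocFreeOfRank_of_isInvertible hL))
    (idealSeq_shortExact (extIdeal A (X := X) m))
  intro x _
  let j : CohB1.tensorMod (ClSub.idealMod (extIdeal A (X := X) m)) L ⟶ L :=
    twistMap (ClSub.idealModι (extIdeal A (X := X) m)) L ≫ inv (unitTm L)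
  obtain ⟨w, hw⟩ := ((exact_f_g A hT 1) (hmap A (unitTm L) 1 x)).1 (hF1.elim _ _)
  have hx : hmap A j 1 w = x := by
    refine (hmap_comp A _ _ 1 w).symm.trans ?_
    refine (congrArg (hmap A (inv (unitTm L)) 1) hw).trans ?_
    rw [hmap_comp, IsIso.hom_inv_id, hmap_id]
  obtain ⟨v, rfl⟩ := exists_h1_sum A h2 hLc r
    (Amp73.isCoh_tensorMod (isCoh_idealMod _) hLc)
    (fun i => Amp73.tmLeft (θ i) L) (spans_stalk A hL m g hg θ hθ) w
  rw [← hx, map_sum]
  refine Submodule.sum_mem _ fun i _ => ?_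
  rw [hmap_comp]
  have hmul : hmap A (Amp73.tmLeft (θ i) L ≫ j) 1 (v i) = g i • v i := by
    refine hmap_eq_smul A _ (g i) (fun U y => ?_) 1 (v i)
    refine ((ConcreteCategory.isIso_iff_bijective ((unitTm L).app U)).1 inferInstance).1 ?_
    show (unitTm L).app U (((Amp73.tmLeft (θ i) L ≫ j) ≫ 𝟙 L).app U y) = _
    rw [← ConcreteCategory.comp_apply, ← Scheme.Modules.Hom.comp_app, Category.comp_id, Category.assoc,
      Category.assoc, IsIso.inv_hom_id, Category.comp_id, Scheme.Modules.Hom.comp_app,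
      ConcreteCategory.comp_apply, Amp73.tmLeft_app, twist_map_tm, Scheme.Modules.Hom.app_smul,
      unitTm_app, Mero90.app_res, hθ]
    let one : Γ(Coh.structureModule X, U) := (1 : Γ(X, U))
    let G : Γ(X, U) := resF (le_top : U ≤ ⊤) (Blow97.gam (X ↘ Spec (CommRingCat.of A)) (g i))
    show tm (Coh.structureModule X) L (G : Γ(Coh.structureModule X, U)) y = G • tm _ L one y
    refine Eq.trans ?_ (Amp73.tm_smul_left G one y)
    exact congrArg (fun b => tm (Coh.structureModule X) L b y) (mul_one G).symm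
  rw [hmul]
  exact Submodule.smul_mem_smul (hg ▸ Submodule.subset_span (Set.mem_range_self i)) Submodule.mem_top

include hfib h1 hL hnef in
theorem isGloballyGenerated_relative : Curv2.IsGloballyGenerated L := by
  let f := X ↘ Spec (CommRingCat.of A)
  haveI : IsLocallyNoetherian X := LocallyOfFiniteType.isLocallyNoetherian f
  haveI : CompactSpace X := QuasiCompact.compactSpace_of_compactSpace f
  have h2 := h2Zero_relative A f hfib
  have hLc := Amp73.isCoh_of_isInvertible hL
  have hL1 := subsingleton_h1_relative A hfib h1 hL hnef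
  refine isGloballyGenerated_of_gen hL fun x hx => ?_
  let m : Ideal A := (show PrimeSpectrum A from f x).asIdeal
  have hxcl : IsClosed ({f x} : Set (Spec (CommRingCat.of A))) := by
    simpa using f.isClosedMap _ hx
  haveI : m.IsMaximal := (PrimeSpectrum.isClosed_singleton_iff_isMaximal _).1 hxcl
  obtain ⟨r, g, hg⟩ := Submodule.fg_iff_exists_fin_generating_family.1 (IsNoetherian.noetherian m)
  choose θ hθ using fun i => exists_theta A (X := X) m (g := g i)
    (hg ▸ Submodule.subset_span (Set.mem_range_self i))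
  haveI hI1 : Subsingleton (Coh.HH X (CohB1.tensorMod (ClSub.idealMod (extIdeal A (X := X) m)) L) 1) := by
    refine subsingleton_of_forall_eq 0 fun w => ?_
    obtain ⟨v, rfl⟩ := exists_h1_sum A h2 hLc r (Amp73.isCoh_tensorMod (isCoh_idealMod _) hLc)
      (fun i => Amp73.tmLeft (θ i) L) (spans_stalk A hL m g hg θ hθ) w
    exact Finset.sum_eq_zero fun i _ => by rw [Subsingleton.elim (v i) 0, map_zero]
  haveI := isIso_unitTm hL
  obtain ⟨h0, hT⟩ := exists_tR_shortExact (O := X.sheaf) L
    (locally_flat_of_rank_one (Mero90.isFinLocFreeOfRank_of_isInvertible hL))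
    (idealSeq_shortExact (extIdeal A (X := X) m))
  have hle : extIdeal A (X := X) m ≤ ptIdeal hx := by
    refine Scheme.IdealSheafData.le_support_iff_le_vanishingIdeal.1 ?_
    show ({x} : Set X) ⊆ ((extIdeal A (X := X) m).support : Set X)
    rw [Set.singleton_subset_iff, Scheme.IdealSheafData.support_comap]
    show f x ∈ ((Curv2.idealSheaf A m).support : Set _)
    rw [Curv2.idealSheaf, Scheme.IdealSheafData.coe_support_ofIdealTop]
    refine (Scheme.mem_zeroLocus_iff _ _ _).2 fun b hb => ?_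
    obtain ⟨b', hb', rfl⟩ := Ideal.mem_map_iff_of_surjective _
      (Scheme.ΓSpecIso (CommRingCat.of A)).symm.commRingCatIsoToRingEquiv.surjective |>.1 hb
    intro hbx
    exact (basicOpen_eq_of_affine (R := CommRingCat.of A) b').le hbx hb'
  obtain ⟨q, hqe, hq⟩ := exists_quotMap hle
  by_contra hcon
  push Not at hcon
  haveI : Epi (valueAt (ptIdeal hx) L) := epi_valueAt _ hL
  have hzero : twistMap q L = 0 := by
    refine (GGDesc24.isGloballyGenerated_iff _).1 (fibre_case A hfib h1 hL hnef m).2 _ _ fun s => ?_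
    obtain ⟨w, hw⟩ := surjective_app_top_of_h1 A hT hI1 s
    obtain ⟨t, rfl⟩ := ((ConcreteCategory.isIso_iff_bijective ((unitTm L).app ⊤)).1 inferInstance).2 w
    have hv : (valueAt (extIdeal A (X := X) m) L).app ⊤ t = s := hw
    rw [← hv, ← ConcreteCategory.comp_apply, ← Scheme.Modules.Hom.comp_app, valueAt_twistMap q hq L]
    exact (valueAt_eq_zero_iff hx hL t).2 (hcon t)
  refine valueAt_ne_zero hx hL ?_
  rw [← valueAt_twistMap q hq L, hzero, Limits.comp_zero]

end Groth.Agent.Curves2.H1Zero
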