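import Groth.Agent.Curves2.H1Zero.Koszul
import Groth.Agent.Curves2.H1Zero.GenVA
import Groth.Agent.Curves2.H1Zero.RelMain
import Groth.Agent.VarCurve.AmpleDeg

/-!
# Degree one generation from `H¹`-vanishing; ample modules are nef
-/

set_option autoImplicit false
set_option linter.style.haveILetI false
set_option backward.isDefEq.respectTransparency.types false

universe u

open CategoryTheory CategoryTheory.Limits AlgebraicGeometry TopologicalSpace Opposite

noncomputable section

namespace Groth.Agent.Curves2.H1Zero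

open Groth.Agent.Crv77 Groth.Agent.Var76.LineBundle Groth.Agent.Var76.ZeroScheme
open Groth.Agent.Amp73 (tm)

variable {X : Scheme.{u}} {L : X.Modules}

theorem exists_gen_family [CompactSpace X] (hL : PicF.IsInvertible L)
    (hgg : Curv2.IsGloballyGenerated L) :
    ∃ (r : ℕ) (s : Fin r → Γ(L, ⊤)), ∀ x : X, ∃ i, x ∈ CohB1.genLocus L (Var76.Frames.ofSection L (s i)) := by
  classical
  obtain ⟨T, hT⟩ := isCompact_univ.elim_finite_subcover
    (fun t : Γ(L, ⊤) => ((CohB1.genLocus L (Var76.Frames.ofSection L t) : X.Opens) : Set X))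
    (fun t => (CohB1.genLocus L (Var76.Frames.ofSection L t)).2) (fun x _ => by
      obtain ⟨y, hy, hxy⟩ := exists_isClosed_specializes x
      obtain ⟨t, ht⟩ := exists_gen_of_isGloballyGenerated hL hgg hy
      exact Set.mem_iUnion.2 ⟨t, hxy.mem_open (CohB1.genLocus L _).2 ht⟩)
  refine ⟨T.card, fun i => (T.equivFin.symm i).1, fun x => ?_⟩
  obtain ⟨t, htT, hxt⟩ := Set.mem_iUnion₂.1 (hT (Set.mem_univ x))
  refine ⟨T.equivFin ⟨t, htT⟩, ?_⟩
  simpa using hxt

variable (A : Type u) [CommRing A] [X.Over (Spec (CommRingCat.of A))]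

include A in
/-- Tensoring with a generated invertible module keeps `H¹ = 0`. -/
theorem subsingleton_h1_tensor [IsNoetherian X] (h2 : H2Zero X) {L₀ : X.Modules}
    (hL₀ : PicF.IsInvertible L₀) (h1 : Subsingleton (Coh.HH X L₀ 1)) (hL : PicF.IsInvertible L)
    (hgg : Curv2.IsGloballyGenerated L) : Subsingleton (Coh.HH X (CohB1.tensorMod L₀ L) 1) := by
  classical
  obtain ⟨r, s, hs⟩ := exists_gen_family hL hgg
  refine subsingleton_of_forall_eq 0 fun t => ?_
  obtain ⟨v, rfl⟩ := exists_h1_sum A h2 (Amp73.isCoh_of_isInvertible hL₀) r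
    (Amp73.isCoh_tensorMod (Amp73.isCoh_of_isInvertible hL₀) (Amp73.isCoh_of_isInvertible hL))
    (fun i => tmRight (s i) L₀) (fun x e => by
      obtain ⟨Z, hxZ, z, rfl⟩ := QC70.germM_exist e
      obtain ⟨j, hj⟩ := hs x
      obtain ⟨G, hxG, hG⟩ := Amp73.mem_genLocus_iff.1 hj
      rw [Var76.Frames.val_ofSection] at hG
      obtain ⟨y, hy⟩ := Amp73.exists_eq_tm_frame (L := L₀) hG (inf_le_right : Z ⊓ G ≤ G)
        (res _ (inf_le_left : Z ⊓ G ≤ Z) z)
      refine ⟨Pi.single j (QC70.germM L₀ (Z ⊓ G) x ⟨hxZ, hxG⟩ y), ?_⟩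
      rw [Finset.sum_eq_single j (fun i _ hi => by
        rw [Pi.single_eq_of_ne hi]
        exact map_zero ((TopCat.Presheaf.stalkFunctor _ x).map (tmRight (s i) L₀).mapPresheaf).hom)
        (fun h => absurd (Finset.mem_univ j) h), Pi.single_eq_same, QC70.stalkMapM_germ,
        ← QC70.germM_res inf_le_left ⟨hxZ, hxG⟩ z]
      refine congrArg (QC70.germM _ (Z ⊓ G) x ⟨hxZ, hxG⟩) ?_
      rw [tmRight_app]
      refine hy.symm.trans ?_
      rw [res_res]) t
  exact Finset.sum_eq_zero fun k _ => by rw [Subsingleton.elim (v k) 0, map_zero]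

include A in
theorem subsingleton_h1_pow [IsNoetherian X] (h2 : H2Zero X) (hL : PicF.IsInvertible L)
    (hgg : Curv2.IsGloballyGenerated L) {m : ℕ} (hm : Subsingleton (Coh.HH X (CohB1.tensorPow L m) 1))
    {n : ℕ} (hn : m ≤ n) : Subsingleton (Coh.HH X (CohB1.tensorPow L n) 1) := by
  induction hn with
  | refl => exact hm
  | step _ ih => exact subsingleton_h1_tensor A h2 (EGA73.isInvertible_tensorPow hL _) ih hL hgg

include A in
/-- Products generate above a vanishing degree. -/
theorem closure_products_eq_top [IsNoetherian X] (h2 : H2Zero X) (hL : PicF.IsInvertible L)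
    (hgg : Curv2.IsGloballyGenerated L) {m : ℕ} (hm : Subsingleton (Coh.HH X (CohB1.tensorPow L m) 1))
    {n : ℕ} (hn : m + 1 ≤ n) :
    AddSubgroup.closure {t | ∃ (u : Γ(CohB1.tensorPow L n, ⊤)) (s : Γ(L, ⊤)),
      t = tm (CohB1.tensorPow L n) L u s} = ⊤ := by
  obtain ⟨k, rfl⟩ : ∃ k, n = k + 1 := ⟨n - 1, by omega⟩
  obtain ⟨r, s, hs⟩ := exists_gen_family hL hgg
  refine eq_top_iff.2 fun v _ => ?_
  obtain ⟨u, hu⟩ := exists_eq_sum_tm A h2 (EGA73.isInvertible_tensorPow hL k)
    (subsingleton_h1_pow A h2 hL hgg hm (by omega)) hL s hs v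
  rw [hu]
  exact AddSubgroup.sum_mem _ fun i _ => AddSubgroup.subset_closure ⟨u i, s i, rfl⟩

variable {A}

theorem nef_of_isAmple {k : Type u} [Field k] [X.Over (Spec (CommRingCat.of k))]
    [IsProper (X ↘ (Spec (CommRingCat.of k)))] (hL : CohB1.IsAmple L) : Nef k X L := by
  intro J hJ hd
  let g : J.subscheme ⟶ Spec (CommRingCat.of k) := J.subschemeι ≫ (X ↘ (Spec (CommRingCat.of k)))
  letI : J.subscheme.Over (Spec (CommRingCat.of k)) := ⟨g⟩
  haveI : IsProper (J.subscheme ↘ Spec (CommRingCat.of k)) := inferInstanceAs (IsProper g)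
  exact (VarCurve.deg_pos_of_isAmple k hd
    (Amp73.isAmple_pullback J.subschemeι (Amp73.isQuasiAffine_of_isAffineHom J.subschemeι) hL)).le

theorem relNef_of_isAmple {A : Type u} [CommRing A] [X.Over (Spec (CommRingCat.of A))]
    [IsProper (X ↘ (Spec (CommRingCat.of A)))] (hL : CohB1.IsAmple L) :
    RelNef A X (X ↘ Spec (CommRingCat.of A)) L := by
  intro K _ i J t hJ hd ht
  letI : J.subscheme.Over (Spec (CommRingCat.of K)) := ⟨t⟩
  haveI : IsProper (J.subscheme ↘ Spec (CommRingCat.of K)) := by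
    show IsProper t
    haveI : IsProper (t ≫ Spec.map (CommRingCat.ofHom i)) := by rw [ht]; infer_instance
    exact IsProper.of_comp t (Spec.map (CommRingCat.ofHom i))
  exact (VarCurve.deg_pos_of_isAmple K hd
    (Amp73.isAmple_pullback J.subschemeι (Amp73.isQuasiAffine_of_isAffineHom J.subschemeι) hL)).le

theorem degOneGen_of_nef {A : Type u} [CommRing A] [X.Over (Spec (CommRingCat.of A))] [IsNoetherian X]
    (h2 : H2Zero X) (h1 : Subsingleton (Coh.HH X (Coh.structureModule X) 1))
    (hL : PicF.IsInvertible L) (hgg : Curv2.IsGloballyGenerated L) : DegOneGen L :=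
  fun _ hn => closure_products_eq_top A h2 hL hgg (m := 0) h1 hn

end Groth.Agent.Curves2.H1Zero
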