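import Groth.Agent.Curves2.H1Zero.Koszul
import Groth.Agent.Cyc90.GenSec.Main
import Groth.Agent.GRec72.Tensor

/-!
# `H¹(F ⊗ M) = 0` for a generated coherent `F` and `H¹(M) = 0`
-/

set_option autoImplicit false
set_option linter.style.haveILetI false
set_option backward.isDefEq.respectTransparency.types false

universe u

open CategoryTheory CategoryTheory.Limits AlgebraicGeometry TopologicalSpace Opposite

noncomputable section

namespace Groth.Agent.Curves2.H1Zero

open Groth.Agent.Crv77 Groth.Agent.Var76.LineBundle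
open Groth.Agent.Amp73 (tm)
open Groth.Agent.Var76.ZeroScheme (eq_of_locally)

variable {X : Scheme.{u}}

/-- Finitely many global sections of a generated coherent module span all stalks. -/
theorem exists_finite_span [CompactSpace X] {F : X.Modules} (hF : Coh.IsCoh F)
    (hgg : Curv2.IsGloballyGenerated F) :
    ∃ (r : ℕ) (s : Fin r → Γ(F, ⊤)), ∀ x : X, Submodule.span (X.presheaf.stalk x)
      (Set.range fun i => QC70.germM F ⊤ x trivial (s i)) = ⊤ := by
  classical
  haveI := hF.1
  haveI := hF.2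
  have h : ∀ x : X, ∃ (U : X.Opens) (T : Finset Γ(F, ⊤)), x ∈ U ∧ IsAffineOpen U ∧
      ∀ y ∈ U, Submodule.span (X.presheaf.stalk y)
        ((fun t => QC70.germM F ⊤ y trivial t) '' (T : Set Γ(F, ⊤))) = ⊤ := by
    intro x
    obtain ⟨U, hU, hxU, -⟩ := exists_isAffineOpen_mem_and_subset (x := x) (U := (⊤ : X.Opens)) trivial
    obtain ⟨G, hG⟩ := (QC70.finite_sections_of_isFiniteType F hU).fg_top
    -- each generator is, near every point, a combination of finitely many global sections
    have hpt : ∀ y : U, ∃ (T : Finset Γ(F, ⊤)), ∀ g ∈ G, QC70.germM F U y.1 y.2 g ∈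
        Submodule.span (X.presheaf.stalk y.1)
          ((fun t => QC70.germM F ⊤ y.1 trivial t) '' (T : Set Γ(F, ⊤))) := by
      intro y
      have hm : ∀ g : Γ(F, U), ∃ T : Finset Γ(F, ⊤), QC70.germM F U y.1 y.2 g ∈
          Submodule.span (X.presheaf.stalk y.1)
            ((fun t => QC70.germM F ⊤ y.1 trivial t) '' (T : Set Γ(F, ⊤))) := fun g => by
        have hg := (Cyc90.GenSec.span_germ_eq_top hgg y.1).ge
          (show QC70.germM F U y.1 y.2 g ∈ (⊤ : Submodule (X.presheaf.stalk y.1) _) from trivial)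
        obtain ⟨T', hT', hgT'⟩ := Submodule.mem_span_finite_of_mem_span hg
        obtain ⟨T, hT⟩ := Finset.subset_set_image_iff.1 (by rwa [← Set.image_univ] at hT')
        exact ⟨T, by rwa [← Finset.coe_image, hT.2]⟩
      choose T hT using hm
      exact ⟨G.biUnion T, fun g hg => Submodule.span_mono (Set.image_mono
        (Finset.coe_subset.2 (Finset.subset_biUnion_of_mem T hg))) (hT g)⟩
    obtain ⟨T, hT⟩ := hpt ⟨x, hxU⟩
    let φ : Fin T.card → (QC70.unitMod X ⟶ F) := fun i => QC70.unitHom (T.equivFin.symm i).1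
    let Φ := biproduct.desc φ
    have hrange : ∀ (y : X), Submodule.span (X.presheaf.stalk y)
        ((fun t => QC70.germM F ⊤ y trivial t) '' (T : Set Γ(F, ⊤))) ≤
        LinearMap.range (QC70.stalkLinear Φ y) := fun y => by
      rw [Submodule.span_le]
      rintro _ ⟨t, ht, rfl⟩
      refine ⟨QC70.germM _ ⊤ y trivial
        ((biproduct.ι (fun _ : Fin T.card => QC70.unitMod X) (T.equivFin ⟨t, ht⟩)).app ⊤ (QC70.toUnit 1)), ?_⟩
      show QC70.stalkMapM Φ y _ = QC70.germM F ⊤ y trivial t
      rw [QC70.stalkMapM_germ, ← ConcreteCategory.comp_apply, ← Scheme.Modules.Hom.comp_app,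
        biproduct.ι_desc]
      simp [φ, QC70.unitHom_app_one]
    have hsurj : Function.Surjective (QC70.stalkMapM Φ x) := fun e => by
      obtain ⟨a, u, hxa, hau⟩ := QC70.stalk_exists_smul (M := F)
        (QC70.isLocAt_of_isQuasicoherent F hU) hU hxU e
      have hu : QC70.germM F U x hxU u ∈ Submodule.span (X.presheaf.stalk x)
          ((fun t => QC70.germM F ⊤ x trivial t) '' (T : Set Γ(F, ⊤))) := by
        have hmem : u ∈ Submodule.span Γ(X, U) (G : Set Γ(F, U)) := hG ▸ Submodule.mem_top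
        clear hau
        induction hmem using Submodule.span_induction with
        | mem g hg => exact hT g hg
        | zero => rw [QC70.germM_zero]; exact Submodule.zero_mem _
        | add g g' _ _ h h' => rw [QC70.germM_add]; exact Submodule.add_mem _ h h'
        | smul c g _ h => rw [QC70.germM_smul]; exact Submodule.smul_mem _ _ h
      obtain ⟨v, hv⟩ := (((X.mem_basicOpen a x hxU).1 hxa).unit⁻¹ : (X.presheaf.stalk x)ˣ).isUnit.exists_left_inv
      have he : e = (((X.mem_basicOpen a x hxU).1 hxa).unit⁻¹ : (X.presheaf.stalk x)ˣ).1 •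
          QC70.germM F U x hxU u := by
        rw [← hau, smul_smul, IsUnit.val_inv_mul, one_smul]
      rw [he]
      exact LinearMap.mem_range.1 ((LinearMap.range (QC70.stalkLinear Φ x)).smul_mem _ (hrange x hu))
    have hcok : Coh.IsCoh (cokernel Φ) :=
      QC70.isCoh_cokernel Φ (QC70.isCoh_biproduct _ fun _ => isCoh_structureModule).1 hF
    haveI := hcok.2
    obtain ⟨W, hxW, hW⟩ := QC70.exists_nhd_sections_subsingleton (M := cokernel Φ) x
      (QC70.subsingleton_stalk_cokernel Φ x hsurj)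
    obtain ⟨V, hV, hxV, hVW⟩ := exists_isAffineOpen_mem_and_subset (x := x) (U := W) hxW
    refine ⟨V, T, hxV, hV, fun y hy => eq_top_iff.2 fun e _ => ?_⟩
    have hz : QC70.stalkMapM (cokernel.π Φ) y e = 0 := by
      haveI : Subsingleton ((cokernel Φ).presheaf.stalk y) := subsingleton_of_forall_eq 0 fun ε => by
        obtain ⟨Z, hyZ, z, rfl⟩ := QC70.germM_exist ε
        haveI := hW (Z ⊓ W) inf_le_right
        rw [← QC70.germM_res inf_le_left (show y ∈ Z ⊓ W from ⟨hyZ, hVW hy⟩) z,
          Subsingleton.elim (QC70.res _ _ z) 0]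
        exact QC70.germM_zero _
      exact Subsingleton.elim _ _
    have hseq : (ShortComplex.mk (Abelian.image.ι Φ) (cokernel.π Φ) (kernel.condition _)).Exact :=
      ShortComplex.exact_of_f_is_kernel _ (kernelIsKernel _)
    haveI : Mono (ShortComplex.mk (Abelian.image.ι Φ) (cokernel.π Φ) (kernel.condition _)).f :=
      inferInstanceAs (Mono (kernel.ι _))
    obtain ⟨w, hw⟩ := QC70.stalkMapM_exact _ hseq y e hz
    obtain ⟨v, rfl⟩ := QC70.surjective_stalkMapM_of_epi (Abelian.factorThruImage Φ) y w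
    rw [← hw]
    show QC70.stalkMapM (Abelian.image.ι Φ) y (QC70.stalkMapM (Abelian.factorThruImage Φ) y v) ∈ _
    rw [← QC70.stalkMapM_comp, Abelian.image.fac]
    let E := QC70.biproductStalkEquiv (fun _ : Fin T.card => QC70.unitMod X) y
    rw [← E.symm_apply_apply v]
    show QC70.stalkLinear Φ y ((∑ i, (QC70.stalkLinear (biproduct.ι (fun _ : Fin T.card => QC70.unitMod X) i) y).comp
      (LinearMap.proj i) : _ →ₗ[X.presheaf.stalk y] _) (E v)) ∈ _
    rw [LinearMap.sum_apply, map_sum]
    refine Submodule.sum_mem _ fun i _ => ?_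
    show QC70.stalkMapM Φ y (QC70.stalkMapM (biproduct.ι (fun _ : Fin T.card => QC70.unitMod X) i) y (E v i)) ∈ _
    rw [← QC70.stalkMapM_comp, biproduct.ι_desc]
    obtain ⟨Z, hyZ, z, hz'⟩ := QC70.germM_exist (E v i)
    rw [← hz', QC70.stalkMapM_germ, QC70.app_toUnit (φ i) z, QC70.germM_smul]
    refine Submodule.smul_mem _ _ (Submodule.subset_span ⟨(T.equivFin.symm i).1, (T.equivFin.symm i).2, ?_⟩)
    rw [QC70.germM_res]
    simp [φ, QC70.unitHom_app_one]
  choose U T hxU hU hT using h
  obtain ⟨P, hP⟩ := isCompact_univ.elim_finite_subcover (fun x => (U x : Set X)) (fun x => (U x).2)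
    (fun x _ => Set.mem_iUnion.2 ⟨x, hxU x⟩)
  let A := P.biUnion T
  refine ⟨A.card, fun i => (A.equivFin.symm i).1, fun y => ?_⟩
  obtain ⟨x, hxP, hyx⟩ := Set.mem_iUnion₂.1 (hP (Set.mem_univ y))
  refine eq_top_iff.2 ((hT x y hyx).ge.trans (Submodule.span_mono ?_))
  rintro _ ⟨t, ht, rfl⟩
  exact ⟨A.equivFin ⟨t, Finset.mem_biUnion.2 ⟨x, hxP, ht⟩⟩, by simp⟩

/-- Maps that jointly cancel on the right span the stalks. -/
theorem exists_stalk_sum_of_cancel {M T : X.Modules} {r : ℕ} (φ : Fin r → (M ⟶ T))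
    (h : ∀ (N : X.Modules) (q : T ⟶ N), (∀ i, φ i ≫ q = 0) → q = 0) (x : X)
    (e : T.presheaf.stalk x) : ∃ m : Fin r → M.presheaf.stalk x, e = ∑ i, QC70.stalkMapM (φ i) x (m i) := by
  haveI : Epi (biproduct.desc φ) := Preadditive.epi_of_cancel_zero _ fun {N} q hq => h N q fun i => by
    rw [← biproduct.ι_desc φ i, Category.assoc, hq, comp_zero]
  obtain ⟨v, rfl⟩ := QC70.surjective_stalkMapM_of_epi (biproduct.desc φ) x e
  let E := QC70.biproductStalkEquiv (fun _ : Fin r => M) x
  refine ⟨E v, ?_⟩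
  conv_lhs => rw [← E.symm_apply_apply v]
  show QC70.stalkLinear (biproduct.desc φ) x ((∑ i, (QC70.stalkLinear (biproduct.ι (fun _ : Fin r => M) i) x).comp
      (LinearMap.proj i) : _ →ₗ[X.presheaf.stalk x] _) (E v)) = _
  rw [LinearMap.sum_apply, map_sum]
  refine Finset.sum_congr rfl fun i _ => ?_
  show QC70.stalkMapM (biproduct.desc φ) x (QC70.stalkMapM (biproduct.ι (fun _ : Fin r => M) i) x (E v i)) = _
  rw [← QC70.stalkMapM_comp, biproduct.ι_desc]

variable (A : Type u) [CommRing A] [X.Over (Spec (CommRingCat.of A))]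

include A in
/-- Tensoring with a generated coherent module keeps `H¹ = 0`. -/
theorem subsingleton_h1_tensor_gg [IsNoetherian X] (h2 : H2Zero X) {F M : X.Modules} (hF : Coh.IsCoh F)
    (hgg : Curv2.IsGloballyGenerated F) (hM : Coh.IsCoh M) (h1 : Subsingleton (Coh.HH X M 1)) :
    Subsingleton (Coh.HH X (CohB1.tensorMod F M) 1) := by
  classical
  obtain ⟨r, s, hs⟩ := exists_finite_span hF hgg
  have hcancel : ∀ (N : X.Modules) (q : CohB1.tensorMod F M ⟶ N),
      (∀ i, Amp73.tmLeft (s i) M ≫ q = 0) → q = 0 := by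
    intro N q hq
    refine GRec72.hom_ext_tmul fun U e m => ?_
    refine Eq.trans ?_ (show (0 : CohB1.tensorMod F M ⟶ N).app U (tm F M e m) = 0 from rfl).symm
    refine eq_of_locally _ _ _ fun y hy => ?_
    let K : Submodule (X.presheaf.stalk y) (F.presheaf.stalk y) :=
      { carrier := {ε | ∃ (W : X.Opens) (hW : y ∈ W) (u : Γ(F, W)), QC70.germM F W y hW u = ε ∧
          ∀ (V : X.Opens) (hV : V ≤ W) (m : Γ(M, V)), q.app V (tm F M (res F hV u) m) = 0}
        zero_mem' := ⟨⊤, trivial, 0, QC70.germM_zero _, fun V hV m => by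
          rw [show res F hV (0 : Γ(F, ⊤)) = 0 from map_zero _, Amp73.tm_zero_left, map_zero]⟩
        add_mem' := fun {a b} ⟨W, hW, u, hu, hu'⟩ ⟨W', hW', u', hu₂, hu₂'⟩ =>
          ⟨W ⊓ W', ⟨hW, hW'⟩, res F inf_le_left u + res F inf_le_right u', by
            rw [QC70.germM_add, QC70.germM_res, QC70.germM_res, hu, hu₂], fun V hV m => by
            rw [Amp73.res_add, Amp73.tm_add_left, map_add, res_res, res_res,
              hu' V (hV.trans inf_le_left) m, hu₂' V (hV.trans inf_le_right) m, add_zero]⟩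
        smul_mem' := fun c ε ⟨W, hW, u, hu, hu'⟩ => by
          obtain ⟨W', hW', a, rfl⟩ := X.presheaf.germ_exist c
          refine ⟨W ⊓ W', ⟨hW, hW'⟩,
            resF (inf_le_right : W ⊓ W' ≤ W') a • res F (inf_le_left : W ⊓ W' ≤ W) u, ?_, fun V hV m => ?_⟩
          · rw [QC70.germM_smul, QC70.germM_res, hu]
            exact congrArg (· • ε) (QC70.germ_resO (inf_le_right : W ⊓ W' ≤ W') ⟨hW, hW'⟩ a)
          · rw [res_smul, res_res, Amp73.tm_smul_left, Scheme.Modules.Hom.app_smul,
              hu' V (hV.trans inf_le_left) m, smul_zero] }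
    have hK : QC70.germM F U y hy e ∈ K := by
      refine (eq_top_iff.1 ?_ : (⊤ : Submodule _ _) ≤ K) trivial
      refine eq_top_iff.2 ((hs y).ge.trans (Submodule.span_le.2 ?_))
      rintro _ ⟨i, rfl⟩
      refine ⟨⊤, trivial, s i, rfl, fun V hV m => ?_⟩
      have := congrArg (fun φ : M ⟶ N => φ.app V m) (hq i)
      exact this
    obtain ⟨W, hW, u, hu, hu'⟩ := hK
    obtain ⟨W', hW'y, iW, iU, heq⟩ := TopCat.Presheaf.germ_eq F.presheaf y hW hy u e hu
    have he : res F iU.le e = res F iW.le u := heq.symm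
    refine ⟨W', iU.le, hW'y, ?_⟩
    rw [← Mero90.app_res, Amp73.res_tm, he, hu' W' iW.le]
    exact (map_zero _).symm
  refine subsingleton_of_forall_eq 0 fun t => ?_
  obtain ⟨v, rfl⟩ := exists_h1_sum A h2 hM r (Amp73.isCoh_tensorMod hF hM)
    (fun i => Amp73.tmLeft (s i) M) (exists_stalk_sum_of_cancel _ hcancel) t
  exact Finset.sum_eq_zero fun k _ => by rw [Subsingleton.elim (v k) 0, map_zero]

end Groth.Agent.Curves2.H1Zero
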