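import Groth.Agent.Curves2.H1Zero.Twist
import Groth.Agent.S3852
import Groth.Agent.S4362

/-!
# Sections lift to every integral closed subscheme when `H¹(O) = 0` and all constants are scalars

`X` is Noetherian of dimension at most one with `H² = 0` on coherent modules and `H¹(O_X) = 0`;
global functions surject onto those of every integral closed subscheme, and on each of them `L` has a
nonzero section. Then `L` is globally generated.
-/

set_option autoImplicit false
set_option linter.style.haveILetI false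
set_option backward.isDefEq.respectTransparency.types false

universe u

open CategoryTheory CategoryTheory.Limits AlgebraicGeometry TopologicalSpace Opposite

noncomputable section

namespace Groth.Agent.Curves2.H1Zero

open Groth.Agent.Crv77 Groth.Agent.Var76.LineBundle Groth.Agent.Var76.ZeroScheme

variable {X : Scheme.{u}}

/-- The ideal of the closure of a point. -/
abbrev ptCl (η : X) : X.IdealSheafData :=
  Scheme.IdealSheafData.vanishingIdeal ⟨closure {η}, isClosed_closure⟩

/-- Removing a component: the ideal of some proper closed subscheme kills the ideal of a component. -/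
theorem exists_colon [IsNoetherian X] (J : X.IdealSheafData) {η : X}
    (hη : MaxIn (J.support : Set X) η) :
    J ≤ ptCl η ∧ ∃ J', J < J' ∧ ptCl η * J' ≤ J := by
  classical
  have hJI : J ≤ ptCl η := Scheme.IdealSheafData.le_support_iff_le_vanishingIdeal.1
    (show closure {η} ⊆ (J.support : Set X) from
      J.support.isClosed.closure_subset_iff.2 (Set.singleton_subset_iff.2 hη.1))
  refine ⟨hJI, ?_⟩
  obtain ⟨T, hTfin, hTcl, hTirr, hTeq⟩ :=
    NoetherianSpace.exists_finite_set_isClosed_irreducible J.support.isClosed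
  let Y : Closeds X := ⟨⋃ Z ∈ {Z ∈ T | η ∉ Z}, Z,
    (hTfin.subset fun Z hZ => hZ.1).isClosed_biUnion fun Z hZ => hTcl Z hZ.1⟩
  have hηY : η ∉ (Y : Set X) := fun h => by
    obtain ⟨Z, hZ, hηZ⟩ := Set.mem_iUnion₂.1 h
    exact hZ.2 hηZ
  let P := Scheme.IdealSheafData.vanishingIdeal Y
  have hsupp : (J.support : Set X) ⊆ ((ptCl η * P).support : Set X) := by
    intro y hy
    have hy' := hy
    rw [hTeq] at hy'
    obtain ⟨Z, hZ, hyZ⟩ := Set.mem_sUnion.1 hy'
    rw [Scheme.IdealSheafData.support_mul, Closeds.coe_sup,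
      Scheme.IdealSheafData.coe_support_vanishingIdeal, Scheme.IdealSheafData.coe_support_vanishingIdeal]
    by_cases hηZ : η ∈ Z
    · left
      obtain ⟨g, hg⟩ := QuasiSober.sober (hTirr Z hZ) (hTcl Z hZ)
      have hgη : g = η := hη.2 g (hTeq ▸ Set.mem_sUnion.2 ⟨Z, hZ, hg.mem⟩) (hg.specializes hηZ)
      show y ∈ closure ({η} : Set X)
      rw [← hgη, hg.def]
      exact hyZ
    · exact Or.inr (Set.mem_iUnion₂.2 ⟨Z, ⟨hZ, hηZ⟩, hyZ⟩)
  obtain ⟨n, hn⟩ := S3852.result X (ptCl η * P) J hsupp
  have hex : ∃ a : ℕ, ptCl η ^ a * P ^ (n + 1) ≤ J := ⟨n + 1, by rw [← mul_pow]; exact hn⟩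
  have ha0 : Nat.find hex ≠ 0 := fun h0 => hηY <| by
    have h1 := Nat.find_spec hex
    rw [h0, pow_zero, one_mul] at h1
    have h2 : (J.support : Set X) ⊆ ((P ^ (n + 1)).support : Set X) :=
      Scheme.IdealSheafData.support_antitone h1
    rw [Scheme.IdealSheafData.support_pow_succ, Scheme.IdealSheafData.coe_support_vanishingIdeal] at h2
    exact h2 hη.1
  obtain ⟨a, ha⟩ := Nat.exists_eq_succ_of_ne_zero ha0
  refine ⟨J ⊔ ptCl η ^ a * P ^ (n + 1), ?_, ?_⟩
  · refine lt_of_le_not_ge le_sup_left fun h => ?_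
    exact Nat.find_min hex (show a < Nat.find hex by omega) (le_sup_right.trans h)
  · have h1 : ptCl η * (ptCl η ^ a * P ^ (n + 1)) ≤ J := by
      have := Nat.find_spec hex
      rw [ha, pow_succ'] at this
      rwa [← mul_assoc]
    rw [← Scheme.IdealSheafData.add_eq_sup, mul_add, Scheme.IdealSheafData.add_eq_sup]
    refine sup_le ?_ h1
    intro U
    rw [Scheme.IdealSheafData.ideal_mul, Pi.mul_apply]
    exact Ideal.mul_le_right

variable (A : Type u) [CommRing A] [X.Over (Spec (CommRingCat.of A))] {L : X.Modules}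

include A in
theorem subsingleton_h1_quotMod [IsLocallyNoetherian X] (h2 : H2Zero X)
    (h1 : Subsingleton (Coh.HH X (Coh.structureModule X) 1)) (I : X.IdealSheafData) :
    Subsingleton (Coh.HH X (ClSub.quotMod I) 1) := by
  haveI := epi_toSubscheme I
  exact subsingleton_h1_of_epi A h2 (ClSub.toSubscheme I) isCoh_structureModule (isCoh_quotMod I) h1

include A in
theorem genMax [IsNoetherian X] (hdim : topologicalKrullDim X ≤ 1) (h2 : H2Zero X)
    (h1 : Subsingleton (Coh.HH X (Coh.structureModule X) 1))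
    (hI : ∀ η : X, Function.Surjective ((ClSub.toSubscheme (ptCl η)).app ⊤))
    (hL : PicF.IsInvertible L)
    (hC : ∀ η : X, ∃ s : Γ(CohB1.tensorMod (ClSub.quotMod (ptCl η)) L, ⊤), s ≠ 0)
    (J : X.IdealSheafData) : GenMax J L := by
  haveI := S4362.result X
  induction J using WellFoundedGT.induction with
  | ind J ih =>
    intro η hη
    obtain ⟨hJI, J', hlt, hmul⟩ := exists_colon J hη
    obtain ⟨q, hqe, hq⟩ := exists_quotMap hJI
    haveI := hqe
    have hS := kernelSeq_shortExact q
    have hqsurj : Function.Surjective (q.app ⊤) := fun v => by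
      obtain ⟨a, ha⟩ := hI η v
      refine ⟨(ClSub.toSubscheme J).app ⊤ a, ?_⟩
      rw [← hq] at ha
      exact ha
    have hK : Coh.IsCoh (kernel q) := QC70.isCoh_kernel q (isCoh_quotMod J) (isCoh_quotMod _).1
    have hK1 : Subsingleton (Coh.HH X (kernel q) 1) :=
      subsingleton_h1_of_surjective A hS hqsurj (subsingleton_h1_quotMod A h2 h1 J)
    have hKL := subsingleton_h1_twist A hdim h2 (kills_kernel q hq hmul) hL (ih J' hlt) hK hK1
    obtain ⟨h0, hT⟩ := exists_tR_shortExact (O := X.sheaf) L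
      (locally_flat_of_rank_one (Mero90.isFinLocFreeOfRank_of_isInvertible hL)) hS
    obtain ⟨v, hv⟩ := hC η
    obtain ⟨s, hs⟩ := surjective_app_top_of_h1 A hT hKL v
    refine ⟨s, genAt_of_ne_zero hL rfl q hq s ?_⟩
    intro h
    exact hv (hs.symm.trans h)

include A in
/-- Sections take every value at a closed point. -/
theorem surjective_valueAt [IsNoetherian X] (hdim : topologicalKrullDim X ≤ 1) (h2 : H2Zero X)
    (h1 : Subsingleton (Coh.HH X (Coh.structureModule X) 1))
    (hI : ∀ η : X, Function.Surjective ((ClSub.toSubscheme (ptCl η)).app ⊤))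
    (hL : PicF.IsInvertible L)
    (hC : ∀ η : X, ∃ s : Γ(CohB1.tensorMod (ClSub.quotMod (ptCl η)) L, ⊤), s ≠ 0) (η : X) :
    Function.Surjective ((valueAt (ptCl η) L).app ⊤) := fun v => by
  haveI := isIso_unitTm hL
  have hS := idealSeq_shortExact (ptCl η)
  have hK1 : Subsingleton (Coh.HH X (ClSub.idealMod (ptCl η)) 1) :=
    subsingleton_h1_of_surjective A hS (hI η) h1
  have hKL := subsingleton_h1_twist A hdim h2 (kills_bot _) hL (genMax A hdim h2 h1 hI hL hC ⊥)
    (isCoh_idealMod _) hK1
  obtain ⟨h0, hT⟩ := exists_tR_shortExact (O := X.sheaf) L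
    (locally_flat_of_rank_one (Mero90.isFinLocFreeOfRank_of_isInvertible hL)) hS
  obtain ⟨w, hw⟩ := surjective_app_top_of_h1 A hT hKL v
  obtain ⟨t, ht⟩ := ((ConcreteCategory.isIso_iff_bijective ((unitTm L).app ⊤)).1 inferInstance).2 w
  refine ⟨t, ?_⟩
  show (twistMap (ClSub.toSubscheme (ptCl η)) L).app ⊤ ((unitTm L).app ⊤ t) = v
  rw [ht]
  exact hw

include A in
/-- `L` is globally generated. -/
theorem isGloballyGenerated_of_integral [IsNoetherian X] (hdim : topologicalKrullDim X ≤ 1)
    (h2 : H2Zero X) (h1 : Subsingleton (Coh.HH X (Coh.structureModule X) 1))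
    (hI : ∀ η : X, Function.Surjective ((ClSub.toSubscheme (ptCl η)).app ⊤))
    (hL : PicF.IsInvertible L)
    (hC : ∀ η : X, ∃ s : Γ(CohB1.tensorMod (ClSub.quotMod (ptCl η)) L, ⊤), s ≠ 0) :
    Curv2.IsGloballyGenerated L := by
  refine isGloballyGenerated_of_gen hL fun x hx => ?_
  obtain ⟨v, hv⟩ := hC x
  obtain ⟨t, ht⟩ := surjective_valueAt A hdim h2 h1 hI hL hC x v
  refine ⟨t, by_contra fun hcon => hv ?_⟩
  rw [← ht]
  have h : (⟨closure {x}, isClosed_closure⟩ : Closeds X) = ⟨{x}, hx⟩ := Closeds.ext hx.closure_eq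
  have h0 := (valueAt_eq_zero_iff hx hL t).2 hcon
  rw [← h] at h0
  exact h0

include A in
/-- `H¹` of a globally generated invertible module vanishes with `H¹(O)`. -/
theorem subsingleton_h1_of_globallyGenerated [IsNoetherian X] (hdim : topologicalKrullDim X ≤ 1)
    (h2 : H2Zero X) (h1 : Subsingleton (Coh.HH X (Coh.structureModule X) 1))
    (hL : PicF.IsInvertible L) (hgg : Curv2.IsGloballyGenerated L) :
    Subsingleton (Coh.HH X L 1) := by
  haveI := isIso_unitTm hL
  haveI : Subsingleton (Coh.HH X (CohB1.tensorMod (Coh.structureModule X) L) 1) := ?_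
  · exact (hEquiv A (asIso (unitTm L)) 1).injective.subsingleton
  refine subsingleton_h1_twist A hdim h2 (kills_bot _) hL ?_ isCoh_structureModule h1
  intro η _
  obtain ⟨y, hy, hηy⟩ := exists_isClosed_specializes η
  obtain ⟨t, ht⟩ := exists_gen_of_isGloballyGenerated hL hgg hy
  obtain ⟨U, hyU, hU⟩ := Amp73.mem_genLocus_iff.1 ht
  refine ⟨(valueAt ⊥ L).app ⊤ t, U, hηy.mem_open U.2 hyU, _, hU, ?_⟩
  rw [Var76.Frames.val_ofSection, Mero90.app_res]

end Groth.Agent.Curves2.H1Zero
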