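import Groth.Agent.Curves2.H1Zero.Basic
import Groth.Agent.Curves2.Ample.Component

/-!
# Sections of `(O/J) ⊗ L` generating at a point, and the maps `M → M ⊗ L` they give when `J M = 0`
-/

set_option autoImplicit false
set_option linter.style.haveILetI false
set_option backward.isDefEq.respectTransparency.types false

universe u

open CategoryTheory CategoryTheory.Limits AlgebraicGeometry TopologicalSpace Opposite

noncomputable section

namespace Groth.Agent.Curves2.H1Zero

open Groth.Agent.Crv77 Groth.Agent.Var76.LineBundle Groth.Agent.Var76.ZeroScheme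
open Groth.Agent.Amp73 (tm)

variable {X : Scheme.{u}}

/-- The restriction of a function. -/
abbrev resF {U V : X.Opens} (h : V ≤ U) (a : Γ(X, U)) : Γ(X, V) :=
  X.presheaf.map (homOfLE h).op a

theorem resF_resF {U V W : X.Opens} (h : V ≤ U) (h' : W ≤ V) (a : Γ(X, U)) :
    resF h' (resF h a) = resF (h'.trans h) a := by
  simp only [resF, ← ConcreteCategory.comp_apply, ← Functor.map_comp]
  rfl

theorem idealModι_toSubscheme {J I : X.IdealSheafData} (h : J ≤ I) :
    ClSub.idealModι J ≫ ClSub.toSubscheme I = 0 := by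
  refine Scheme.Modules.hom_ext _ _ fun V => ?_
  ext m
  refine eq_of_locally _ _ _ fun p hp => ?_
  obtain ⟨W, hW, hpW, hsub⟩ := exists_isAffineOpen_mem_and_subset (x := p) (U := V) hp
  have hWV : W ≤ V := hsub
  refine ⟨W, hWV, hpW, ?_⟩
  rw [← Mero90.app_res]
  refine Eq.trans ?_ (map_zero _).symm
  have h0 : (ClSub.toSubscheme J).app W ((ClSub.idealModι J).app W (res _ hWV m)) = 0 :=
    congrArg (fun φ : ClSub.idealMod J ⟶ ClSub.quotMod J => φ.app W (res _ hWV m))
      (kernel.condition (ClSub.toSubscheme J))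
  exact (toSubscheme_eq_zero_iff I hW _).2 (h ⟨W, hW⟩ ((toSubscheme_eq_zero_iff J hW _).1 h0))

/-- The projection `O/J → O/I`. -/
theorem exists_quotMap {J I : X.IdealSheafData} (h : J ≤ I) :
    ∃ q : ClSub.quotMod J ⟶ ClSub.quotMod I, Epi q ∧
      ClSub.toSubscheme J ≫ q = ClSub.toSubscheme I := by
  have hS := idealSeq_shortExact J
  haveI : Epi (idealSeq J).g := hS.epi_g
  refine ⟨hS.exact.desc (ClSub.toSubscheme I) (idealModι_toSubscheme h), ?_, hS.exact.g_desc _ _⟩
  haveI := epi_toSubscheme I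
  haveI : Epi ((idealSeq J).g ≫ hS.exact.desc (ClSub.toSubscheme I) (idealModι_toSubscheme h)) := by
    rw [hS.exact.g_desc]; exact epi_toSubscheme I
  exact epi_of_epi (idealSeq J).g _

/-- `J` kills `M`. -/
def Kills (J : X.IdealSheafData) (M : X.Modules) : Prop :=
  ∀ (U : X.affineOpens), ∀ b ∈ J.ideal U, ∀ (W : X.Opens) (h : W ≤ U.1) (m : Γ(M, W)),
    resF h b • m = 0

theorem kills_bot (M : X.Modules) : Kills (⊥ : X.IdealSheafData) M := by
  intro U b hb W h m
  simp only [Scheme.IdealSheafData.ideal_bot, Pi.bot_apply, Submodule.mem_bot] at hb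
  rw [hb, resF, map_zero, zero_smul]

theorem kills_kernel {J I J' : X.IdealSheafData} (q : ClSub.quotMod J ⟶ ClSub.quotMod I)
    (hq : ClSub.toSubscheme J ≫ q = ClSub.toSubscheme I) (hmul : I * J' ≤ J) :
    Kills J' (kernel q) := by
  intro U b hb W h m
  refine eq_of_locally _ _ _ fun p hp => ?_
  obtain ⟨V, hV, hpV, hsub⟩ := exists_isAffineOpen_mem_and_subset (x := p) (U := W) hp
  have hVW : V ≤ W := hsub
  refine ⟨V, hVW, hpV, ?_⟩
  rw [res_smul]
  refine Eq.trans ?_ (map_zero _).symm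
  have hbV : resF (hVW.trans h) b ∈ J'.ideal ⟨V, hV⟩ := by
    rw [← J'.map_ideal (U := ⟨V, hV⟩) (V := U) (hVW.trans h)]
    exact Ideal.mem_map_of_mem _ hb
  have hbb : X.presheaf.map (homOfLE hVW).op (resF h b) = resF (hVW.trans h) b := resF_resF h hVW b
  rw [hbb]
  refine (QC70.app_injective_of_mono (kernel.ι q) V).eq_iff.1 ?_
  rw [Scheme.Modules.Hom.app_smul, map_zero]
  obtain ⟨x, hx⟩ := J.subschemeι.app_surjective V hV ((kernel.ι q).app V (res _ hVW m))
  have hx' : (ClSub.toSubscheme J).app V (x : Γ(Coh.structureModule X, V)) =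
      (kernel.ι q).app V (res _ hVW m) := hx
  have hxI : x ∈ I.ideal ⟨V, hV⟩ := by
    refine (toSubscheme_eq_zero_iff I hV x).1 ?_
    have h1 : q.app V ((ClSub.toSubscheme J).app V (x : Γ(Coh.structureModule X, V))) = 0 := by
      rw [hx']
      exact congrArg (fun φ : kernel q ⟶ ClSub.quotMod I => φ.app V (res _ hVW m)) (kernel.condition q)
    rw [← hq]
    exact h1
  have hprod : x * resF (hVW.trans h) b ∈ J.ideal ⟨V, hV⟩ := by
    refine hmul ⟨V, hV⟩ ?_
    rw [Scheme.IdealSheafData.ideal_mul, Pi.mul_apply]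
    exact Ideal.mul_mem_mul hxI hbV
  have h2 := (toSubscheme_eq_zero_iff J hV (x * resF (hVW.trans h) b)).2 hprod
  rw [← hx']
  refine Eq.trans ?_ h2
  rw [mul_comm]
  exact ((ClSub.toSubscheme J).app_smul _ _).symm

variable {L : X.Modules}

theorem valueAt_twistMap {J I : X.IdealSheafData} (q : ClSub.quotMod J ⟶ ClSub.quotMod I)
    (hq : ClSub.toSubscheme J ≫ q = ClSub.toSubscheme I) (L : X.Modules) :
    valueAt J L ≫ twistMap q L = valueAt I L := by
  rw [valueAt, valueAt, Category.assoc, ← hq]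
  exact congrArg (unitTm L ≫ ·) ((twist L).map_comp (ClSub.toSubscheme J) q).symm

theorem epi_valueAt (J : X.IdealSheafData) (hL : PicF.IsInvertible L) : Epi (valueAt J L) := by
  haveI := isIso_unitTm hL
  haveI := epi_toSubscheme J
  haveI : Epi (twistMap (ClSub.toSubscheme J) L) :=
    (exists_tR_shortExact (O := X.sheaf) L
      (locally_flat_of_rank_one (Mero90.isFinLocFreeOfRank_of_isInvertible hL))
      (idealSeq_shortExact J)).choose_spec.epi_g
  exact inferInstanceAs (Epi (unitTm L ≫ twistMap (ClSub.toSubscheme J) L))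

/-- `t` near `y` is a frame of `L` lifting `s`. -/
def GenAt (J : X.IdealSheafData) (L : X.Modules) (s : Γ(CohB1.tensorMod (ClSub.quotMod J) L, ⊤))
    (y : X) : Prop :=
  ∃ (U : X.Opens) (_ : y ∈ U) (t : Γ(L, U)), IsFrame L U t ∧
    (valueAt J L).app U t = res _ le_top s

theorem isFrame_unit_smul {U : X.Opens} {e : Γ(L, U)} (he : IsFrame L U e) {a : Γ(X, U)}
    (ha : IsUnit a) : IsFrame L U (a • e) := by
  intro V h
  have hu : IsUnit (resF h a) := ha.map (X.presheaf.map (homOfLE h).op).hom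
  have : (fun c : Γ(X, V) => c • res L h (a • e)) =
      (fun c => c • res L h e) ∘ (fun c => c * resF h a) := by
    funext c
    simp only [Function.comp_apply, res_smul, smul_smul]
  rw [this]
  exact (he V h).comp (IsUnit.isUnit_iff_mulRight_bijective.1 hu)

theorem mem_vanishingIdeal_closure_iff {η : X} {U : X.Opens} (hU : IsAffineOpen U) (a : Γ(X, U)) :
    a ∈ (Scheme.IdealSheafData.vanishingIdeal ⟨closure {η}, isClosed_closure⟩).ideal ⟨U, hU⟩ ↔
      η ∉ X.basicOpen a := by
  rw [Scheme.IdealSheafData.vanishingIdeal_ideal, PrimeSpectrum.mem_vanishingIdeal]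
  constructor
  · intro h hηa
    have hηU : η ∈ U := X.basicOpen_le a hηa
    have h1 : hU.primeIdealOf ⟨η, hηU⟩ ∈ hU.fromSpec ⁻¹ᵁ X.basicOpen a := by
      show hU.fromSpec _ ∈ X.basicOpen a
      rw [hU.fromSpec_primeIdealOf]; exact hηa
    rw [hU.fromSpec_preimage_basicOpen] at h1
    refine h1 (h _ ?_)
    show hU.fromSpec _ ∈ closure ({η} : Set X)
    rw [hU.fromSpec_primeIdealOf]
    exact subset_closure rfl
  · intro hηa p hp
    by_contra hap
    have h1 : p ∈ hU.fromSpec ⁻¹ᵁ X.basicOpen a := by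
      rw [hU.fromSpec_preimage_basicOpen]; exact hap
    exact hηa ((specializes_iff_mem_closure.2 hp).mem_open (X.basicOpen a).2 h1)

/-- A section nonzero on the closed set `closure {η}` generates at `η`. -/
theorem genAt_of_ne_zero (hL : PicF.IsInvertible L) {η : X} {J I : X.IdealSheafData}
    (hI : I = Scheme.IdealSheafData.vanishingIdeal ⟨closure {η}, isClosed_closure⟩)
    (q : ClSub.quotMod J ⟶ ClSub.quotMod I) (hq : ClSub.toSubscheme J ≫ q = ClSub.toSubscheme I)
    (s : Γ(CohB1.tensorMod (ClSub.quotMod J) L, ⊤)) (hs : (twistMap q L).app ⊤ s ≠ 0) :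
    GenAt J L s η := by
  by_contra hcon
  refine hs (eq_of_locally _ _ _ fun z _ => ?_)
  obtain ⟨U, hzU, -, e, he⟩ := Mero90.exists_affine_frame hL z ⊤ trivial
  refine ⟨U.1, le_top, hzU, ?_⟩
  rw [← Mero90.app_res]
  refine Eq.trans ?_ (map_zero _).symm
  obtain ⟨m, hm⟩ := Amp73.exists_eq_tm_frame (L := ClSub.quotMod J) he (le_refl U.1) (res _ le_top s)
  rw [Amp73.res_self] at hm
  obtain ⟨a, ha⟩ := J.subschemeι.app_surjective U.1 U.2 m
  have ha' : (ClSub.toSubscheme J).app U.1 (a : Γ(Coh.structureModule X, U.1)) = m := ha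
  have hval : (valueAt J L).app U.1 (a • e) = res _ le_top s := by
    rw [valueAt_frame, ha', hm]
  have hη : η ∉ X.basicOpen a := fun hηa => by
    refine hcon ⟨X.basicOpen a, hηa, res L (X.basicOpen_le a) (a • e), ?_, ?_⟩
    · rw [res_smul]
      exact isFrame_unit_smul (he.res _) (RingedSpace.isUnit_res_basicOpen _ a)
    · rw [Mero90.app_res, hval, res_res]
  rw [← hval, ← ConcreteCategory.comp_apply, ← Scheme.Modules.Hom.comp_app,
    valueAt_twistMap q hq L, valueAt_frame]
  have h0 : (ClSub.toSubscheme I).app U.1 (a : Γ(Coh.structureModule X, U.1)) = 0 := by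
    subst hI
    exact (toSubscheme_eq_zero_iff _ U.2 a).2 ((mem_vanishingIdeal_closure_iff U.2 a).2 hη)
  rw [h0]
  exact Amp73.tm_zero_left _

/-- Tensors of `M` with sections of `L` vanishing modulo `J` are zero when `J M = 0`. -/
theorem tm_eq_zero {J : X.IdealSheafData} {M : X.Modules} (hM : Kills J M) (hL : PicF.IsInvertible L)
    {V : X.Opens} (d : Γ(L, V)) (hd : (valueAt J L).app V d = 0) (m : Γ(M, V)) :
    tm M L m d = 0 := by
  refine eq_of_locally _ _ _ fun z hz => ?_
  obtain ⟨U, hzU, hUV, e, he⟩ := Mero90.exists_affine_frame hL z V hz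
  refine ⟨U.1, hUV, hzU, ?_⟩
  refine Eq.trans ?_ (map_zero _).symm
  obtain ⟨c, hc⟩ := (he U.1 le_rfl).2 (res L hUV d)
  dsimp only at hc
  rw [Amp73.res_self] at hc
  have hcJ : c ∈ J.ideal U := by
    refine (toSubscheme_eq_zero_iff J U.2 c).1 ?_
    have h1 : (valueAt J L).app U.1 (c • e) = 0 := by
      rw [hc, Mero90.app_res, hd]; exact map_zero _
    rw [valueAt_frame, ← Amp73.tm_zero_left e] at h1
    exact Amp73.tm_frame_injective (L := ClSub.quotMod J) he le_rfl _ 0 (by rw [Amp73.res_self]; exact h1)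
  have h2 : res _ hUV (tm M L m d) = tm M L (res M hUV m) (res L hUV d) :=
    SecTwist.map_tmul M L (homOfLE hUV) m d
  rw [h2, ← hc, Amp73.tm_smul_right, ← Amp73.tm_smul_left]
  have h3 := hM U c hcJ U.1 le_rfl (res M hUV m)
  have h4 : resF (le_refl U.1) c = c := by
    change X.presheaf.map (𝟙 (op U.1)) c = c
    simp
  rw [h4] at h3
  rw [h3, Amp73.tm_zero_left]

end Groth.Agent.Curves2.H1Zero
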