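import Groth.Agent.Curves2.H1Zero.Spans

/-!
# Castelnuovo's lemma: `Γ(M ⊗ L) ⊗ Γ(L) → Γ(M ⊗ L ⊗ L)` is onto when `L` is generated and `H¹(M) = 0`
-/

set_option autoImplicit false
set_option linter.style.haveILetI false
set_option backward.isDefEq.respectTransparency.types false

universe u

open CategoryTheory CategoryTheory.Limits AlgebraicGeometry TopologicalSpace Opposite

noncomputable section

namespace Groth.Agent.Curves2.H1Zero

open Groth.Agent.Crv77 Groth.Agent.Var76.LineBundle Groth.Agent.Var76.ZeroScheme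
open Groth.Agent.Amp73 (tm)

variable {X : Scheme.{u}}

/-- `y ↦ y ⊗ t` for a global section `t`. -/
def tmRight {G : X.Modules} (t : Γ(G, ⊤)) (N : X.Modules) : N ⟶ CohB1.tensorMod N G :=
  ⟨PresheafOfModules.homMk (M₁ := N.val) (M₂ := (CohB1.tensorMod N G).val)
    { app := fun U => AddCommGrpCat.ofHom
        (AddMonoidHom.mk' (fun (y : Γ(N, U.unop)) => tm N G y (res G (le_top : U.unop ≤ ⊤) t))
          (fun y y' => Amp73.tm_add_left y y' _))
      naturality := fun U V i => by
        ext y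
        show tm N G (res N i.unop.le y) (res G (le_top : V.unop ≤ ⊤) t) =
          res (CohB1.tensorMod N G) i.unop.le (tm N G y (res G (le_top : U.unop ≤ ⊤) t))
        rw [Amp73.res_tm, res_res] }
    (fun _ r y => Amp73.tm_smul_left r y _)⟩

theorem tmRight_app {G : X.Modules} (t : Γ(G, ⊤)) (N : X.Modules) (U : X.Opens) (y : Γ(N, U)) :
    (tmRight t N).app U y = tm N G y (res G le_top t) := rfl

variable {L : X.Modules}

/-- The Koszul relation between two sections. -/
def koszul {r : ℕ} (L₀ : X.Modules) (s : Fin r → Γ(L, ⊤)) (p : Fin r × Fin r) :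
    L₀ ⟶ ⨁ fun _ : Fin r => CohB1.tensorMod L₀ L :=
  tmRight (s p.2) L₀ ≫ biproduct.ι (fun _ : Fin r => CohB1.tensorMod L₀ L) p.1 -
    tmRight (s p.1) L₀ ≫ biproduct.ι (fun _ : Fin r => CohB1.tensorMod L₀ L) p.2

/-- The map `(L₀ ⊗ L)^r → L₀ ⊗ L ⊗ L`. -/
def mulMap {r : ℕ} (L₀ : X.Modules) (s : Fin r → Γ(L, ⊤)) :
    (⨁ fun _ : Fin r => CohB1.tensorMod L₀ L) ⟶ CohB1.tensorMod (CohB1.tensorMod L₀ L) L :=
  biproduct.desc fun i => tmRight (s i) (CohB1.tensorMod L₀ L)

theorem comp_tmRight_comm {L₀ : X.Modules} (hL : PicF.IsInvertible L) (s t : Γ(L, ⊤)) :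
    tmRight s L₀ ≫ tmRight t (CohB1.tensorMod L₀ L) = tmRight t L₀ ≫ tmRight s (CohB1.tensorMod L₀ L) := by
  refine Scheme.Modules.hom_ext _ _ fun U => ?_
  ext y
  refine eq_of_locally _ _ _ fun p hp => ?_
  obtain ⟨W, hpW, hWU, f, hf⟩ := Mero90.exists_affine_frame hL p U hp
  refine ⟨W.1, hWU, hpW, ?_⟩
  rw [← Mero90.app_res, ← Mero90.app_res, Scheme.Modules.Hom.comp_app, Scheme.Modules.Hom.comp_app,
    ConcreteCategory.comp_apply, ConcreteCategory.comp_apply, tmRight_app, tmRight_app, tmRight_app,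
    tmRight_app]
  obtain ⟨a, ha⟩ := (hf W.1 le_rfl).2 (res L le_top s)
  obtain ⟨b, hb⟩ := (hf W.1 le_rfl).2 (res L le_top t)
  dsimp only at ha hb
  rw [Amp73.res_self] at ha hb
  rw [← ha, ← hb]
  simp only [Amp73.tm_smul_left, Amp73.tm_smul_right, smul_smul, mul_comm]

theorem koszul_mulMap {r : ℕ} {L₀ : X.Modules} (hL : PicF.IsInvertible L) (s : Fin r → Γ(L, ⊤))
    (p : Fin r × Fin r) : koszul L₀ s p ≫ mulMap L₀ s = 0 := by
  rw [koszul, mulMap, Preadditive.sub_comp, Category.assoc, Category.assoc, biproduct.ι_desc,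
    biproduct.ι_desc, sub_eq_zero]
  exact comp_tmRight_comm hL (s p.2) (s p.1)

theorem app_sum_apply {M N : X.Modules} {ι : Type*} (t : Finset ι) (f : ι → (M ⟶ N)) (U : X.Opens)
    (x : Γ(M, U)) : (∑ i ∈ t, f i).app U x = ∑ i ∈ t, (f i).app U x :=
  map_sum (AddMonoidHom.mk' (fun g : M ⟶ N => g.app U x) (fun g g' => by
    rw [Scheme.Modules.Hom.add_app]; rfl)) f t

theorem biproduct_stalk_ext {n : ℕ} (M : Fin n → X.Modules) (x : X) (e e' : (⨁ M).presheaf.stalk x)
    (h : ∀ i, QC70.stalkMapM (biproduct.π M i) x e = QC70.stalkMapM (biproduct.π M i) x e') : e = e' :=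
  (QC70.biproductStalkEquiv M x).injective (funext h)

theorem koszul_π {r : ℕ} {L₀ : X.Modules} (s : Fin r → Γ(L, ⊤)) (a b i : Fin r) :
    koszul L₀ s (a, b) ≫ biproduct.π _ i =
      (if a = i then tmRight (s b) L₀ else 0) - (if b = i then tmRight (s a) L₀ else 0) := by
  classical
  rw [koszul, Preadditive.sub_comp, Category.assoc, Category.assoc]
  congr 1
  · by_cases h : a = i
    · subst h; rw [biproduct.ι_π_self, Category.comp_id, if_pos rfl]
    · rw [biproduct.ι_π_ne _ h, Limits.comp_zero, if_neg h]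
  · by_cases h : b = i
    · subst h; rw [biproduct.ι_π_self, Category.comp_id, if_pos rfl]
    · rw [biproduct.ι_π_ne _ h, Limits.comp_zero, if_neg h]

variable (A : Type u) [CommRing A] [X.Over (Spec (CommRingCat.of A))]

include A in
theorem isCoh_biproduct_const {r : ℕ} {M : X.Modules} (hM : Coh.IsCoh M) :
    Coh.IsCoh (⨁ fun _ : Fin r => M) :=
  QC70.isCoh_biproduct _ fun _ => hM

include A in
/-- Castelnuovo's lemma. -/
theorem exists_eq_sum_tm [IsNoetherian X] (h2 : H2Zero X) {L₀ : X.Modules} (hL₀ : PicF.IsInvertible L₀)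
    (h1 : Subsingleton (Coh.HH X L₀ 1)) (hL : PicF.IsInvertible L) {r : ℕ} (s : Fin r → Γ(L, ⊤))
    (hs : ∀ x : X, ∃ i, x ∈ CohB1.genLocus L (Var76.Frames.ofSection L (s i)))
    (v : Γ(CohB1.tensorMod (CohB1.tensorMod L₀ L) L, ⊤)) :
    ∃ u : Fin r → Γ(CohB1.tensorMod L₀ L, ⊤), v = ∑ i, tm _ L (u i) (s i) := by
  classical
  have hFi := EGA73.isInvertible_tensorMod hL₀ hL
  have hFc := Amp73.isCoh_of_isInvertible hFi
  have hTc : Coh.IsCoh (CohB1.tensorMod (CohB1.tensorMod L₀ L) L) :=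
    Amp73.isCoh_of_isInvertible (EGA73.isInvertible_tensorMod hFi hL)
  have hBc : Coh.IsCoh (⨁ fun _ : Fin r => CohB1.tensorMod L₀ L) := isCoh_biproduct_const A hFc
  have hnear : ∀ (x : X) (U : X.Opens), x ∈ U → ∃ (W : X.Opens) (j : Fin r), x ∈ W ∧ W ≤ U ∧
      IsFrame L W (res L (le_top (a := W)) (s j)) ∧ (∃ w : Γ(L₀, W), IsFrame L₀ W w) ∧
      ∀ i, ∃ a : Γ(X, W), a • res L (le_top (a := W)) (s j) = res L (le_top (a := W)) (s i) := by
    intro x U hx
    obtain ⟨j, hj⟩ := hs x
    obtain ⟨G, hxG, hG⟩ := Amp73.mem_genLocus_iff.1 hj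
    rw [Var76.Frames.val_ofSection] at hG
    obtain ⟨W₀, hxW₀, hW₀, w, hw⟩ := Mero90.exists_affine_frame hL₀ x (U ⊓ G) ⟨hx, hxG⟩
    have hWG : W₀.1 ≤ G := hW₀.trans inf_le_right
    have hfr : IsFrame L W₀.1 (res L le_top (s j)) := by
      have := hG.res hWG
      rwa [res_res] at this
    refine ⟨W₀.1, j, hxW₀, hW₀.trans inf_le_left, hfr, ⟨w, hw⟩, fun i => ?_⟩
    obtain ⟨a, ha⟩ := (hfr W₀.1 le_rfl).2 (res L le_top (s i))
    dsimp only at ha
    rw [Amp73.res_self] at ha
    exact ⟨a, ha⟩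
  haveI hepi : Epi (mulMap L₀ s) := by
    refine QC70.epi_of_surjective_stalkMapM _ fun x e => ?_
    obtain ⟨Z, hxZ, z, rfl⟩ := QC70.germM_exist e
    obtain ⟨W, j, hxW, hWZ, hfr, -, -⟩ := hnear x Z hxZ
    obtain ⟨y, hy⟩ := Amp73.exists_eq_tm_frame (L := CohB1.tensorMod L₀ L) hfr le_rfl (res _ hWZ z)
    rw [Amp73.res_self] at hy
    refine ⟨QC70.germM _ W x hxW ((biproduct.ι (fun _ : Fin r => CohB1.tensorMod L₀ L) j).app W y), ?_⟩
    rw [QC70.stalkMapM_germ, ← QC70.germM_res hWZ hxW z]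
    refine congrArg (QC70.germM _ W x hxW) ?_
    rw [← ConcreteCategory.comp_apply, ← Scheme.Modules.Hom.comp_app, mulMap, biproduct.ι_desc,
      tmRight_app]
    exact hy
  let e := (Fintype.equivFin (Fin r × Fin r)).symm
  let φ : Fin (Fintype.card (Fin r × Fin r)) → (L₀ ⟶ kernel (mulMap L₀ s)) := fun k =>
    kernel.lift _ (koszul L₀ s (e k)) (koszul_mulMap hL s (e k))
  have hEc : Coh.IsCoh (kernel (mulMap L₀ s)) := QC70.isCoh_kernel _ hBc hTc.1
  have hspan : ∀ (x : X) (ε : (kernel (mulMap L₀ s)).presheaf.stalk x),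
      ∃ m : Fin (Fintype.card (Fin r × Fin r)) → L₀.presheaf.stalk x,
        ε = ∑ k, QC70.stalkMapM (φ k) x (m k) := by
    intro x ε
    obtain ⟨Z, hxZ, z, rfl⟩ := QC70.germM_exist ε
    obtain ⟨W, j, hxW, hWZ, hfr, ⟨w, hw⟩, hco⟩ := hnear x Z hxZ
    choose a ha using hco
    let F' : Γ(CohB1.tensorMod L₀ L, W) := tm L₀ L w (res L le_top (s j))
    let y : Fin r → Γ(CohB1.tensorMod L₀ L, W) := fun i =>
      (biproduct.π (fun _ : Fin r => CohB1.tensorMod L₀ L) i).app W
        ((kernel.ι (mulMap L₀ s)).app W (res _ hWZ z))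
    have hy : ∀ i, ∃ b : Γ(X, W), y i = b • F' := fun i => by
      obtain ⟨m, hm⟩ := Amp73.exists_eq_tm_frame (L := L₀) hfr le_rfl (y i)
      rw [Amp73.res_self] at hm
      obtain ⟨b, hb⟩ := (hw W le_rfl).2 m
      dsimp only at hb
      rw [Amp73.res_self] at hb
      exact ⟨b, by rw [← hm, ← hb, Amp73.tm_smul_left]⟩
    choose b hb using hy
    let m : Fin r × Fin r → Γ(L₀, W) := fun p =>
      if p.2 = j ∧ p.1 ≠ j then b p.1 • w else 0
    refine ⟨fun k => QC70.germM L₀ W x hxW (m (e k)), ?_⟩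
    rw [← QC70.germM_res hWZ hxW z]
    -- the relation among the coefficients
    have hrel : ∑ i, (b i * a i) • tm _ L F' (res L le_top (s j)) = 0 := by
      have h0 : (mulMap L₀ s).app W ((kernel.ι (mulMap L₀ s)).app W (res _ hWZ z)) = 0 :=
        congrArg (fun g : kernel (mulMap L₀ s) ⟶ CohB1.tensorMod (CohB1.tensorMod L₀ L) L =>
          g.app W (res _ hWZ z)) (kernel.condition (mulMap L₀ s))
      let t := (kernel.ι (mulMap L₀ s)).app W (res _ hWZ z)
      let Gm : Γ(⨁ fun _ : Fin r => CohB1.tensorMod L₀ L, W) →+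
          (⨁ fun _ : Fin r => CohB1.tensorMod L₀ L).presheaf.stalk x :=
        AddMonoidHom.mk' (QC70.germM _ W x hxW) (fun u u' => QC70.germM_add hxW u u')
      have ht : t = ∑ i, (biproduct.ι (fun _ : Fin r => CohB1.tensorMod L₀ L) i).app W (y i) := by
        have h3 : ((𝟙 (⨁ fun _ : Fin r => CohB1.tensorMod L₀ L)) : _ ⟶ _).app W t = t := rfl
        rw [← biproduct.total] at h3
        refine h3.symm.trans ?_
        rw [app_sum_apply]
        exact Finset.sum_congr rfl fun i _ => rfl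
      have h1 : (mulMap L₀ s).app W t = 0 := h0
      rw [ht, map_sum] at h1
      refine Eq.trans (Finset.sum_congr rfl fun i _ => ?_) h1
      rw [← ConcreteCategory.comp_apply, ← Scheme.Modules.Hom.comp_app, mulMap, biproduct.ι_desc,
        tmRight_app, hb, ← ha i, Amp73.tm_smul_left, Amp73.tm_smul_right, smul_smul]
    have hfr2 : IsFrame (CohB1.tensorMod (CohB1.tensorMod L₀ L) L) W (tm _ L F' (res L le_top (s j))) :=
      Amp73.isFrame_tm (Amp73.isFrame_tm hw hfr) hfr
    have hrel' : ∑ i, b i * a i = 0 := by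
      rw [← Finset.sum_smul] at hrel
      refine (hfr2 W le_rfl).1 ?_
      dsimp only
      rw [Amp73.res_self, zero_smul]
      exact hrel
    have haj : a j = 1 := by
      refine (hfr W le_rfl).1 ?_
      dsimp only
      rw [Amp73.res_self, ha j, one_smul]
    have hbj : b j = -∑ i ∈ Finset.univ.erase j, b i * a i := by
      rw [← Finset.add_sum_erase _ _ (Finset.mem_univ j), haj, mul_one] at hrel'
      exact eq_neg_of_add_eq_zero_left hrel'
    -- compare after the inclusion, component by component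
    refine (QC70.injective_stalkMapM_of_mono (kernel.ι (mulMap L₀ s)) x) ?_
    refine biproduct_stalk_ext _ x _ _ fun i => ?_
    let P := fun k => QC70.stalkMapM (φ k) x (QC70.germM L₀ W x hxW (m (e k)))
    let Φ : (kernel (mulMap L₀ s)).presheaf.stalk x →+ (CohB1.tensorMod L₀ L).presheaf.stalk x :=
      ((TopCat.Presheaf.stalkFunctor _ x).map
        (biproduct.π (fun _ : Fin r => CohB1.tensorMod L₀ L) i).mapPresheaf).hom.comp
        ((TopCat.Presheaf.stalkFunctor _ x).map (kernel.ι (mulMap L₀ s)).mapPresheaf).hom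
    show QC70.stalkMapM (biproduct.π _ i) x (QC70.stalkMapM (kernel.ι _) x
      (QC70.germM _ W x hxW (res _ hWZ z))) = Φ (∑ k, P k)
    rw [map_sum, QC70.stalkMapM_germ, QC70.stalkMapM_germ]
    have hP : ∀ k, Φ (P k) = QC70.germM _ W x hxW
        ((koszul L₀ s (e k) ≫ biproduct.π _ i).app W (m (e k))) := fun k => by
      show QC70.stalkMapM (biproduct.π _ i) x (QC70.stalkMapM (kernel.ι _) x
        (QC70.stalkMapM (φ k) x (QC70.germM L₀ W x hxW (m (e k))))) = _
      rw [QC70.stalkMapM_germ, QC70.stalkMapM_germ, QC70.stalkMapM_germ]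
      refine congrArg (QC70.germM _ W x hxW) ?_
      rw [← kernel.lift_ι (mulMap L₀ s) (koszul L₀ s (e k)) (koszul_mulMap hL s (e k))]
      rfl
    rw [Finset.sum_congr rfl fun k _ => hP k]
    let Gm : Γ(CohB1.tensorMod L₀ L, W) →+ (CohB1.tensorMod L₀ L).presheaf.stalk x :=
      AddMonoidHom.mk' (QC70.germM _ W x hxW) (fun u u' => QC70.germM_add hxW u u')
    show Gm (y i) = ∑ k, Gm _
    rw [← map_sum]
    refine congrArg Gm ?_
    rw [Equiv.sum_comp e (fun p => (koszul L₀ s p ≫ biproduct.π _ i).app W (m p)),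
      Fintype.sum_prod_type]
    have hterm : ∀ c d : Fin r, (koszul L₀ s (c, d) ≫ biproduct.π _ i).app W (m (c, d)) =
        if d = j ∧ c ≠ j then
          ((if c = i then b c else 0) - (if d = i then b c * a c else 0)) • F' else 0 := by
      intro c d
      by_cases hcd : d = j ∧ c ≠ j
      · obtain ⟨rfl, hc⟩ := hcd
        simp only [m, if_pos (And.intro rfl hc), koszul_π]
        have hA : (tmRight (s d) L₀).app W (b c • w) = b c • F' := by
          rw [tmRight_app, Amp73.tm_smul_left]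
        have hB : (tmRight (s c) L₀).app W (b c • w) = (b c * a c) • F' := by
          rw [tmRight_app, Amp73.tm_smul_left, ← ha c, Amp73.tm_smul_right, smul_smul]
        rw [Scheme.Modules.Hom.sub_app, sub_smul]
        show (if c = i then tmRight (s d) L₀ else 0).app W (b c • w) -
          (if d = i then tmRight (s c) L₀ else 0).app W (b c • w) = _
        rw [if_pos (And.intro trivial hc)]
        refine congrArg₂ (fun (u v : Γ(CohB1.tensorMod L₀ L, W)) => u - v) ?_ ?_
        · split_ifs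
          · exact hA
          · rw [zero_smul, Scheme.Modules.Hom.zero_app]; rfl
        · split_ifs
          · exact hB
          · rw [zero_smul, Scheme.Modules.Hom.zero_app]; rfl
      · simp only [m, if_neg hcd, map_zero]
    rw [Finset.sum_congr rfl fun c _ => Finset.sum_congr rfl fun d _ => hterm c d]
    have hinner : ∀ c : Fin r, (∑ d, if d = j ∧ c ≠ j then
          ((if c = i then b c else 0) - (if d = i then b c * a c else 0)) • F' else 0) =
        if c ≠ j then ((if c = i then b c else 0) - (if j = i then b c * a c else 0)) • F' else 0 := by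
      intro c
      rw [Finset.sum_eq_single j]
      · simp
      · intro d _ hd; simp [hd]
      · intro h; exact absurd (Finset.mem_univ j) h
    rw [Finset.sum_congr rfl fun c _ => hinner c, ← Finset.sum_filter, Finset.filter_ne',
      ← Finset.sum_smul, Finset.sum_sub_distrib, hb]
    congr 1
    rw [Finset.sum_ite_eq' (Finset.univ.erase j) i]
    by_cases hij : j = i
    · subst hij
      rw [if_neg (Finset.notMem_erase _ _), zero_sub, hbj]
      exact congrArg Neg.neg (Finset.sum_congr rfl fun c _ => (if_pos rfl).symm)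
    · rw [if_pos (Finset.mem_erase.2 ⟨Ne.symm hij, Finset.mem_univ i⟩)]
      rw [Finset.sum_eq_zero fun c _ => if_neg hij, sub_zero]
  haveI hE : Subsingleton (Coh.HH X (kernel (mulMap L₀ s)) 1) := by
    refine subsingleton_of_forall_eq 0 fun t => ?_
    obtain ⟨m, rfl⟩ := exists_h1_sum A h2 (Amp73.isCoh_of_isInvertible hL₀) _ hEc φ hspan t
    exact Finset.sum_eq_zero fun k _ => by rw [Subsingleton.elim (m k) 0, map_zero]
  obtain ⟨u, hu⟩ := surjective_app_top_of_h1 A (kernelSeq_shortExact (mulMap L₀ s)) hE v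
  refine ⟨fun i => (biproduct.π (fun _ : Fin r => CohB1.tensorMod L₀ L) i).app ⊤ u, ?_⟩
  rw [← hu]
  have h3 : ((𝟙 (⨁ fun _ : Fin r => CohB1.tensorMod L₀ L)) : _ ⟶ _).app ⊤ u = u := rfl
  rw [← biproduct.total, app_sum_apply] at h3
  conv_lhs => rw [← h3]
  rw [map_sum]
  refine Finset.sum_congr rfl fun i _ => ?_
  show (biproduct.ι _ i ≫ mulMap L₀ s).app ⊤
    ((biproduct.π (fun _ : Fin r => CohB1.tensorMod L₀ L) i).app ⊤ u) = _
  rw [mulMap, biproduct.ι_desc, tmRight_app, Amp73.res_self]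

end Groth.Agent.Curves2.H1Zero
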