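import Groth.Agent.Curves2.H1Zero.Field
import Mathlib.FieldTheory.IsAlgClosed.AlgebraicClosure
import Mathlib.AlgebraicGeometry.Morphisms.Integral

/-!
# Descent from the algebraic closure
-/

set_option autoImplicit false
set_option linter.style.haveILetI false
set_option backward.isDefEq.respectTransparency.types false

universe u

open CategoryTheory CategoryTheory.Limits AlgebraicGeometry TopologicalSpace Opposite

noncomputable section

namespace Groth.Agent.Curves2.H1Zero

open Groth.Agent.Crv77 Groth.Agent.Var76.LineBundle Groth.Agent.Var76.ZeroScheme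

theorem genLocus_nonempty_ne_zero {X : Scheme.{u}} {M : X.Modules} (s : Coh.structureModule X ⟶ M)
    {x : X} (hx : x ∈ CohB1.genLocus M s) : s.app ⊤ (1 : Γ(X, ⊤)) ≠ 0 := by
  intro h
  obtain ⟨U, hxU, hU⟩ := Amp73.mem_genLocus_iff.1 hx
  have h1 : val M s U = 0 := by
    rw [← res_val M s (le_top : U ≤ ⊤)]
    show res M _ (s.app ⊤ (1 : Γ(X, ⊤))) = 0
    rw [h]; exact map_zero _
  have h2 := (hU U le_rfl).1 (a₁ := (1 : Γ(X, U))) (a₂ := 0) (by
    dsimp only
    rw [Amp73.res_self, h1, smul_zero, smul_zero])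
  haveI : Nonempty U := ⟨⟨x, hxU⟩⟩
  exact one_ne_zero h2

variable (k : Type u) [Field k] (X : Scheme.{u}) [X.Over (Spec (CommRingCat.of k))]
  [IsProper (X ↘ (Spec (CommRingCat.of k)))]

/-- A nef invertible module on a proper curve with `H¹(O) = 0` is globally generated. -/
theorem isGloballyGenerated_of_nef (hdim : topologicalKrullDim X ≤ 1)
    (h1 : Subsingleton (Coh.HH X (Coh.structureModule X) 1)) {L : X.Modules}
    (hL : PicF.IsInvertible L) (hnef : Nef k X L) : Curv2.IsGloballyGenerated L := by
  let K := AlgebraicClosure k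
  let σ := Spec.map (CommRingCat.ofHom (algebraMap k K))
  let X' := pullback (X ↘ (Spec (CommRingCat.of k))) σ
  letI : X'.Over (Spec (CommRingCat.of K)) := ⟨pullback.snd _ _⟩
  haveI : IsProper (X' ↘ Spec (CommRingCat.of K)) :=
    inferInstanceAs (IsProper (pullback.snd (X ↘ (Spec (CommRingCat.of k))) σ))
  let p : X' ⟶ X := pullback.fst _ _
  have H : IsPullback p (X' ↘ Spec (CommRingCat.of K)) (X ↘ (Spec (CommRingCat.of k))) σ :=
    IsPullback.of_hasPullback _ _
  haveI hσi : IsIntegralHom σ := IsIntegralHom.SpecMap_iff.2 fun a => by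
    exact (inferInstance : Algebra.IsIntegral k K).isIntegral a
  haveI : IsIntegralHom p := MorphismProperty.of_isPullback (P := @IsIntegralHom) H.flip inferInstance
  haveI : Flat σ := Flat.SpecMap_iff.2
    (RingHom.flat_algebraMap_iff.2 (Module.Flat.of_free (R := k) (M := K)))
  haveI : Surjective σ := ⟨fun x => ⟨⟨⊥, Ideal.isPrime_bot⟩, Subsingleton.elim (α := PrimeSpectrum k) _ x⟩⟩
  haveI := isNoetherian_of_proper k X
  haveI := isNoetherian_of_proper K X'
  have hdim' : topologicalKrullDim X' ≤ 1 :=
    (MorE57.topologicalKrullDim_le_of_isIntegralHom p).1.trans hdim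
  have h1' : Subsingleton (Coh.HH X' (Coh.structureModule X') 1) := by
    haveI := (curveCoh_of_proper K X' hdim').finite _ (isCoh_structureModule (X := X')) 1
    refine Module.finrank_zero_iff.1
      ((finrank_hh_structureModule_baseChange k K p H 1).trans ?_)
    exact Module.finrank_zero_of_subsingleton
  haveI : L.IsQuasicoherent := Mero90.isQCoh_of_isInvertible hL
  refine GGDesc24.isGloballyGenerated_of_pullback H L ?_
  refine isGloballyGenerated_of_integral K hdim' (h2Zero_of_proper K hdim') h1' ?_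
    (Amp73.isInvertible_pullback p hL) ?_
  · intro η v
    haveI := isIntegral_ptCl η
    let g : (ptCl η).subscheme ⟶ Spec (CommRingCat.of K) :=
      (ptCl η).subschemeι ≫ (X' ↘ Spec (CommRingCat.of K))
    obtain ⟨a, ha⟩ := (AbSch7.appTop_bijective_of_isAlgClosed g).2 v
    exact ⟨(X' ↘ Spec (CommRingCat.of K)).appTop a, ha⟩
  · intro η
    haveI := isIntegral_ptCl η
    haveI := isIntegral_ptCl (p η)
    let φ : (ptCl η).subscheme ⟶ X := (ptCl η).subschemeι ≫ p
    have hφ : φ (genericPoint (ptCl η).subscheme) = p η :=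
      congrArg (fun y => p y) (subschemeι_genericPoint η)
    have hker : (ptCl (p η)).subschemeι.ker ≤ φ.ker := by
      rw [Scheme.IdealSheafData.ker_subschemeι]
      exact hφ ▸ vanishingIdeal_le_ker φ
    let ψ := IsClosedImmersion.lift (ptCl (p η)).subschemeι φ hker
    have hψ : ψ ≫ (ptCl (p η)).subschemeι = φ := IsClosedImmersion.lift_fac _ _ _
    have hψη : ψ (genericPoint (ptCl η).subscheme) = genericPoint (ptCl (p η)).subscheme := by
      refine (ptCl (p η)).subschemeι.isClosedEmbedding.injective ?_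
      rw [subschemeι_genericPoint]
      exact (congrArg (fun q : (ptCl η).subscheme ⟶ X => q (genericPoint (ptCl η).subscheme)) hψ).trans hφ
    obtain ⟨t, ht⟩ := exists_section_genericPoint hdim h1 hL hnef (p η)
    let M := (Scheme.Modules.pullback (ptCl (p η)).subschemeι).obj L
    have hM : PicF.IsInvertible M := Amp73.isInvertible_pullback _ hL
    let s := Amp73.pullHom ψ (Var76.Frames.ofSection M t)
    have hs : s.app ⊤ (1 : Γ((ptCl η).subscheme, ⊤)) ≠ 0 := by
      refine genLocus_nonempty_ne_zero s (x := genericPoint (ptCl η).subscheme) ?_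
      rw [Amp73.genLocus_pullHom ψ hM]
      show ψ _ ∈ CohB1.genLocus M _
      rw [hψη]
      exact ht
    let e₁ : (Scheme.Modules.pullback ψ).obj M ≅
        (Scheme.Modules.pullback (ptCl η).subschemeι).obj ((Scheme.Modules.pullback p).obj L) :=
      (Scheme.Modules.pullbackComp ψ _).app L ≪≫ (Scheme.Modules.pullbackCongr hψ).app L ≪≫
        ((Scheme.Modules.pullbackComp (ptCl η).subschemeι p).app L).symm
    obtain ⟨e₂⟩ := Ample.nonempty_push_unit_tensor (ptCl η).subschemeι
      (Amp73.isInvertible_pullback p hL)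
    let w : Γ((Scheme.Modules.pullback (ptCl η).subschemeι).obj ((Scheme.Modules.pullback p).obj L), ⊤) :=
      e₁.hom.app ⊤ (s.app ⊤ (1 : Γ((ptCl η).subscheme, ⊤)))
    have hw : w ≠ 0 := fun h => hs
      (((ConcreteCategory.isIso_iff_bijective (e₁.hom.app ⊤)).1 inferInstance).1 (h.trans (map_zero _).symm))
    refine ⟨e₂.inv.app ⊤ w, fun h => hw ?_⟩
    exact ((ConcreteCategory.isIso_iff_bijective (e₂.inv.app ⊤)).1 inferInstance).1
      (h.trans (map_zero (e₂.inv.app ⊤).hom).symm)

/-- `H¹` of a nef invertible module vanishes. -/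
theorem subsingleton_h1_of_nef (hdim : topologicalKrullDim X ≤ 1)
    (h1 : Subsingleton (Coh.HH X (Coh.structureModule X) 1)) {L : X.Modules}
    (hL : PicF.IsInvertible L) (hnef : Nef k X L) : Subsingleton (Coh.HH X L 1) :=
  haveI := isNoetherian_of_proper k X
  subsingleton_h1_of_globallyGenerated k hdim (h2Zero_of_proper k hdim) h1 hL
    (isGloballyGenerated_of_nef k X hdim h1 hL hnef)

end Groth.Agent.Curves2.H1Zero
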