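import Groth.Agent.Curves2.H1Zero.Spans
import Groth.Agent.Coh69.FibreDim
import Groth.Agent.Coh69.RpushSections
import Groth.Agent.Blow97.Affine
import Groth.Agent.Units47.Flat
import Mathlib.RingTheory.Nakayama
import Mathlib.AlgebraicGeometry.Fiber

/-!
# Nef modules on a proper scheme over a Noetherian ring with fibres of dimension at most one
-/

set_option autoImplicit false
set_option linter.style.haveILetI false
set_option backward.isDefEq.respectTransparency.types false

universe u

open CategoryTheory CategoryTheory.Limits AlgebraicGeometry TopologicalSpace Opposite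

noncomputable section

namespace Groth.Agent.Curves2.H1Zero

open Groth.Agent.Crv77 Groth.Agent.Var76.LineBundle Groth.Agent.Var76.ZeroScheme
open Groth.Agent.Amp73 (tm)

/-- Nonnegative degree on all integral curves in the closed fibres. -/
def RelNef (A : Type u) [CommRing A] (X : Scheme.{u}) (f : X ⟶ Spec (CommRingCat.of A)) (L : X.Modules) :
    Prop :=
  ∀ (K : Type u) [Field K] (i : A →+* K) (J : X.IdealSheafData)
      (t : J.subscheme ⟶ Spec (CommRingCat.of K)),
      AlgebraicGeometry.IsIntegral J.subscheme → topologicalKrullDim ↥J.subscheme = 1 →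
      t ≫ Spec.map (CommRingCat.ofHom i) = J.subschemeι ≫ f →
      0 ≤ @Curv2.deg K _ J.subscheme ⟨t⟩ ((Scheme.Modules.pullback J.subschemeι).obj L) 1

variable (A : Type u) [CommRing A] [IsNoetherianRing A] {X : Scheme.{u}}

/-- `H²` vanishes when the fibres have dimension at most one. -/
theorem h2Zero_relative (f : X ⟶ Spec (CommRingCat.of A)) [IsProper f]
    (hfib : ∀ y : ↥(Spec (CommRingCat.of A)), topologicalKrullDim ↥(f.fiber y) ≤ 1) : H2Zero X := by
  intro M hM
  haveI := hM.1
  obtain ⟨e⟩ := Coh69.nonempty_hh_rpushAb_sections f M 2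
  haveI : Subsingleton (((Coh.RpushAb f 2).obj (Coh.toAb M)).obj.obj (op ⊤)) := by
    refine subsingleton_of_forall_eq 0 fun s =>
      TopCat.Presheaf.section_ext ((Coh.RpushAb f 2).obj (Coh.toAb M)) ⊤ _ _ fun y hy => ?_
    haveI := AddCommGrpCat.subsingleton_of_isZero
      (Coh69.FibreDim.isZero_stalk f y 1 (hfib y) M hM 2 one_lt_two)
    exact Subsingleton.elim _ _
  exact e.injective.subsingleton

variable [X.Over (Spec (CommRingCat.of A))]

omit [IsNoetherianRing A] in
theorem hmap_eq_smul {L : X.Modules} (φ : L ⟶ L) (a : A)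
    (h : ∀ (U : X.Opens) (y : Γ(L, U)), φ.app U y =
      resF (le_top : U ≤ ⊤) (Blow97.gam (X ↘ Spec (CommRingCat.of A)) a) • y) (n : ℕ)
    (x : Coh.HH X L n) : hmap A φ n x = a • x := by
  rw [smul_eq_comp A L n a x]
  have h' : (toAbF X).map φ = Coh.smulAb L (Coh.toGlobal (X ↘ Spec (CommRingCat.of A)) a) := by
    ext U y
    exact h U.unop y
  show Abelian.Ext.comp x (Abelian.Ext.mk₀ ((toAbF X).map φ)) (add_zero n) = _
  rw [h']
  rfl

omit [IsNoetherianRing A] in
/-- A finite module equal to `m • M` for all maximal `m` is zero. -/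
theorem subsingleton_of_smul_top_eq (M : Type u) [AddCommGroup M] [Module A M] [Module.Finite A M]
    (h : ∀ m : Ideal A, m.IsMaximal → (⊤ : Submodule A M) ≤ m • ⊤) : Subsingleton M := by
  by_contra hcon
  obtain ⟨x, hx⟩ : ∃ x : M, x ≠ 0 := by
    by_contra hall
    push Not at hall
    exact hcon (subsingleton_of_forall_eq 0 hall)
  have hne : Module.annihilator A M ≠ ⊤ := fun ht => hx (by
    have h1 : (1 : A) ∈ Module.annihilator A M := ht ▸ Submodule.mem_top
    simpa using Module.mem_annihilator.1 h1 x)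
  obtain ⟨m, hm, hle⟩ := Ideal.exists_le_maximal _ hne
  obtain ⟨r, hr, hr0⟩ := Submodule.exists_sub_one_mem_and_smul_eq_zero_of_fg_of_le_smul m ⊤
    Module.Finite.fg_top (h m hm)
  refine hm.ne_top ((Ideal.eq_top_iff_one m).2 ?_)
  have h2 : r ∈ m := hle (Module.mem_annihilator.2 fun y => hr0 y Submodule.mem_top)
  simpa using m.sub_mem h2 hr

variable [IsProper (X ↘ Spec (CommRingCat.of A))]
  (hfib : ∀ y : ↥(Spec (CommRingCat.of A)),
    topologicalKrullDim ↥((X ↘ Spec (CommRingCat.of A)).fiber y) ≤ 1)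
  (h1 : Subsingleton (Coh.HH X (Coh.structureModule X) 1))
  {L : X.Modules} (hL : PicF.IsInvertible L) (hnef : RelNef A X (X ↘ Spec (CommRingCat.of A)) L)

/-- The extension of an ideal of the base. -/
abbrev extIdeal (m : Ideal A) : X.IdealSheafData :=
  (Curv2.idealSheaf A m).comap (X ↘ Spec (CommRingCat.of A))

include hfib h1 hL hnef in
/-- On a closed fibre the module is generated and has no `H¹`. -/
theorem fibre_case (m : Ideal A) [m.IsMaximal] :
    Subsingleton (Coh.HH X (CohB1.tensorMod (ClSub.quotMod (extIdeal A (X := X) m)) L) 1) ∧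
      Curv2.IsGloballyGenerated (CohB1.tensorMod (ClSub.quotMod (extIdeal A (X := X) m)) L) := by
  let f := X ↘ Spec (CommRingCat.of A)
  haveI : IsLocallyNoetherian X := LocallyOfFiniteType.isLocallyNoetherian f
  letI := Ideal.Quotient.field m
  let σ := Spec.map (CommRingCat.ofHom (Ideal.Quotient.mk m))
  haveI : IsClosedImmersion σ := IsClosedImmersion.spec_of_surjective _ Ideal.Quotient.mk_surjective
  let Z := pullback f σ
  let i : Z ⟶ X := pullback.fst f σ
  haveI : IsClosedImmersion i := MorphismProperty.pullback_fst (P := @IsClosedImmersion) _ _ inferInstance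
  have hker : i.ker = extIdeal A (X := X) m := by
    rw [Scheme.IdealSheafData.ker_fst_of_isClosedImmersion, Units47.ker_specMap, Ideal.mk_ker]
  let I := extIdeal A (X := X) m
  let ι := I.subschemeι
  have hkι : ι.ker = i.ker := by rw [Scheme.IdealSheafData.ker_subschemeι, hker]
  haveI := IsClosedImmersion.isIso_lift ι i hkι
  let φ := IsClosedImmersion.lift ι i hkι.le
  have hφ : φ ≫ ι = i := IsClosedImmersion.lift_fac _ _ _
  let t : I.subscheme ⟶ Spec (CommRingCat.of (A ⧸ m)) := inv φ ≫ pullback.snd f σ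
  have htσ : t ≫ σ = ι ≫ f := by
    rw [Category.assoc, ← pullback.condition]
    show inv φ ≫ i ≫ f = ι ≫ f
    rw [← hφ, Category.assoc, IsIso.inv_hom_id_assoc]
  letI : I.subscheme.Over (Spec (CommRingCat.of (A ⧸ m))) := ⟨t⟩
  haveI : IsProper (I.subscheme ↘ Spec (CommRingCat.of (A ⧸ m))) := by
    haveI : IsProper (t ≫ σ) := by rw [htσ]; infer_instance
    exact IsProper.of_comp t σ
  -- dimension
  have hdim : topologicalKrullDim I.subscheme ≤ 1 := by
    let y : Spec (CommRingCat.of A) := σ (⟨⊥, Ideal.isPrime_bot⟩ : PrimeSpectrum (A ⧸ m))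
    have hmem : ∀ c : I.subscheme, ι c ∈ f ⁻¹' {y} := fun c => by
      show f (ι c) = y
      rw [← Scheme.Hom.comp_apply, ← htσ, Scheme.Hom.comp_apply]
      exact congrArg (fun z => σ z) (Subsingleton.elim (α := PrimeSpectrum (A ⧸ m)) _ _)
    have hind : Topology.IsInducing
        ((f.fiberHomeo y).symm ∘ fun c : I.subscheme => (⟨ι c, hmem c⟩ : f ⁻¹' {y})) :=
      (f.fiberHomeo y).symm.isInducing.comp
        (ι.isClosedEmbedding.isInducing.codRestrict hmem)
    exact hind.topologicalKrullDim_le.trans (hfib y)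
  have hι2 := h2Zero_relative A f hfib
  -- no `H¹(O)` on the fibre
  have hO : Subsingleton (Coh.HH I.subscheme (Coh.structureModule I.subscheme) 1) := by
    haveI : (Coh.structureModule I.subscheme).IsQuasicoherent :=
      (isCoh_structureModule (X := I.subscheme)).1
    obtain ⟨e⟩ := Coh69.nonempty_hh_push (f := ι) (Coh.structureModule I.subscheme) 1
    haveI := subsingleton_h1_quotMod A hι2 h1 I
    exact e.injective.subsingleton
  let M := (Scheme.Modules.pullback ι).obj L
  have hM : PicF.IsInvertible M := Amp73.isInvertible_pullback ι hL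
  -- the degrees
  have hN : Nef (A ⧸ m) I.subscheme M := by
    intro J hJ hJd
    let j : J.subscheme ⟶ X := J.subschemeι ≫ ι
    haveI := IsClosedImmersion.isIso_lift j.ker.subschemeι j (by rw [Scheme.IdealSheafData.ker_subschemeι])
    let ψ := IsClosedImmersion.lift j.ker.subschemeι j (by rw [Scheme.IdealSheafData.ker_subschemeι])
    have hψ : ψ ≫ j.ker.subschemeι = j := IsClosedImmersion.lift_fac _ _ _
    let j' : j.ker.subscheme ⟶ I.subscheme := inv ψ ≫ J.subschemeι
    have hj' : j' ≫ ι = j.ker.subschemeι := by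
      rw [Category.assoc]
      show inv ψ ≫ j = _
      exact (congrArg (inv ψ ≫ ·) hψ.symm).trans (IsIso.inv_hom_id_assoc ψ _)
    haveI : AlgebraicGeometry.IsIntegral j.ker.subscheme := by
      haveI : Nonempty j.ker.subscheme := ⟨ψ (genericPoint J.subscheme)⟩
      exact isIntegral_of_isOpenImmersion (inv ψ)
    have hd : topologicalKrullDim j.ker.subscheme = 1 :=
      (ψ.homeomorph.isHomeomorph.topologicalKrullDim_eq _).symm.trans hJd
    letI : j.ker.subscheme.Over (Spec (CommRingCat.of (A ⧸ m))) := ⟨j' ≫ t⟩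
    letI : J.subscheme.Over (Spec (CommRingCat.of (A ⧸ m))) :=
      ⟨J.subschemeι ≫ (I.subscheme ↘ Spec (CommRingCat.of (A ⧸ m)))⟩
    have h := hnef (A ⧸ m) (Ideal.Quotient.mk m) j.ker (j' ≫ t) inferInstance hd
      (by rw [Category.assoc]; show j' ≫ t ≫ σ = _; rw [htσ, ← Category.assoc, hj'])
    haveI : IsNoetherian I.subscheme := isNoetherian_of_proper (A ⧸ m) I.subscheme
    haveI : IsLocallyNoetherian J.subscheme := LocallyOfFiniteType.isLocallyNoetherian J.subschemeι
    haveI : IsLocallyNoetherian j.ker.subscheme := LocallyOfFiniteType.isLocallyNoetherian j'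
    rw [Ample.deg_pullback_eq (A ⧸ m) J.subschemeι rfl hM]
    have h' : Curv2.deg (A ⧸ m) j.ker.subscheme ((Scheme.Modules.pullback j').obj M) 1 =
        Curv2.deg (A ⧸ m) j.ker.subscheme ((Scheme.Modules.pullback j.ker.subschemeι).obj L) 1 := by
      simp only [Curv2.deg]
      exact congrArg (· - _) (euler_congr (k := A ⧸ m) ((Scheme.Modules.pullbackComp j' ι).app L ≪≫
        (Scheme.Modules.pullbackCongr hj').app L))
    rw [← h', Ample.deg_pullback_eq (A ⧸ m) j' rfl hM] at h
    obtain ⟨eO⟩ := Ample.nonempty_push_iso (inv ψ) J.subschemeι j' rfl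
    have q1 := euler_congr (k := A ⧸ m) eO
    have q2 := euler_congr (k := A ⧸ m) ((Crv77.twist M).mapIso eO)
    simp only [Crv77.twist_obj] at q2
    omega
  have hH := subsingleton_h1_of_nef (A ⧸ m) I.subscheme hdim hO hM hN
  have hG := isGloballyGenerated_of_nef (A ⧸ m) I.subscheme hdim hO hM hN
  obtain ⟨e⟩ := Ample.nonempty_push_unit_tensor ι hL
  refine ⟨?_, ?_⟩
  · haveI : M.IsQuasicoherent := Mero90.isQCoh_of_isInvertible hM
    obtain ⟨e'⟩ := Coh69.nonempty_hh_push (f := ι) M 1
    haveI : Subsingleton (Coh.HH X ((Scheme.Modules.pushforward ι).obj M) 1) :=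
      e'.symm.injective.subsingleton
    exact (hEquiv A e 1).injective.subsingleton
  · haveI : CompactSpace I.subscheme := (isNoetherian_of_proper (A ⧸ m) I.subscheme).toCompactSpace
    have h := isGloballyGenerated_push ι hM hG
    rw [GGDesc24.isGloballyGenerated_iff] at h ⊢
    intro T q hq
    have h' := h T (e.inv ≫ q) fun s => hq _
    exact (cancel_epi e.inv).1 (h'.trans comp_zero.symm)

end Groth.Agent.Curves2.H1Zero
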