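import Groth.Agent.Curves2.H1Zero.Nef
import Groth.Agent.QCqs72.Basic

/-!
# `H¹` of a module spanned by images of finitely many maps; direct images of generated modules
-/

set_option autoImplicit false
set_option linter.style.haveILetI false
set_option backward.isDefEq.respectTransparency.types false

universe u

open CategoryTheory CategoryTheory.Limits AlgebraicGeometry TopologicalSpace Opposite

noncomputable section

namespace Groth.Agent.Curves2.H1Zero

open Groth.Agent.Crv77 Groth.Agent.Var76.LineBundle Groth.Agent.Var76.ZeroScheme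

variable (A : Type u) [CommRing A] {X : Scheme.{u}} [X.Over (Spec (CommRingCat.of A))]

include A in
/-- Maps jointly spanning at every stalk are jointly surjective on `H¹`. -/
theorem exists_h1_sum [IsLocallyNoetherian X] (h2 : H2Zero X) {M : X.Modules} (hM : Coh.IsCoh M) :
    ∀ (r : ℕ) {T : X.Modules}, Coh.IsCoh T → ∀ φ : Fin r → (M ⟶ T),
      (∀ (x : X) (e : T.presheaf.stalk x), ∃ m : Fin r → M.presheaf.stalk x,
        e = ∑ i, QC70.stalkMapM (φ i) x (m i)) →
      ∀ y : Coh.HH X T 1, ∃ m : Fin r → Coh.HH X M 1, y = ∑ i, hmap A (φ i) 1 (m i) := by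
  intro r
  induction r with
  | zero =>
    intro T _ φ h y
    have hz : SuppIn T (∅ : Set X) := fun x _ => subsingleton_of_forall_eq 0 fun e => by
      obtain ⟨m, hm⟩ := h x e
      simpa using hm
    haveI := hz.subsingleton_HH Set.finite_empty (fun x hx => hx.elim) 0
    exact ⟨0, Subsingleton.elim _ _⟩
  | succ r ih =>
    intro T hT φ h y
    have hQ : Coh.IsCoh (cokernel (φ 0)) := QC70.isCoh_cokernel (φ 0) hM.1 hT
    haveI : Epi (cokernel.π (φ 0)) := inferInstance
    obtain ⟨m, hm⟩ := ih hQ (fun i => φ i.succ ≫ cokernel.π (φ 0)) (fun x e => by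
      obtain ⟨e', rfl⟩ := QC70.surjective_stalkMapM_of_epi (cokernel.π (φ 0)) x e
      obtain ⟨m, rfl⟩ := h x e'
      refine ⟨fun i => m i.succ, ?_⟩
      refine (map_sum ((TopCat.Presheaf.stalkFunctor _ x).map (cokernel.π (φ 0)).mapPresheaf).hom _ _).trans ?_
      refine (Fin.sum_univ_succ _).trans ?_
      have h0 : ((TopCat.Presheaf.stalkFunctor _ x).map (cokernel.π (φ 0)).mapPresheaf).hom
          (QC70.stalkMapM (φ 0) x (m 0)) = 0 :=
        (QC70.stalkMapM_comp (φ 0) (cokernel.π (φ 0)) x (m 0)).symm.trans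
          (by rw [cokernel.condition]; exact QC70.stalkMapM_zero x (m 0))
      refine (congrArg (· + _) h0).trans ((zero_add _).trans ?_)
      exact Finset.sum_congr rfl fun i _ => (QC70.stalkMapM_comp _ _ x (m i.succ)).symm)
      (hmap A (cokernel.π (φ 0)) 1 y)
    obtain ⟨g, hg⟩ : ∃ g, hmap A (kernel.ι (cokernel.π (φ 0))) 1 g =
        y - ∑ i, hmap A (φ i.succ) 1 (m i) := by
      refine ((exact_f_g A (kernelSeq_shortExact (cokernel.π (φ 0))) 1) _).1 ?_
      rw [map_sub, map_sum, hm, sub_eq_zero]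
      exact Finset.sum_congr rfl fun i _ => (hmap_comp A _ _ 1 (m i)).symm
    have hG : Coh.IsCoh (kernel (cokernel.π (φ 0))) := QC70.isCoh_kernel _ hT hQ.1
    haveI : Epi (kernel.lift (cokernel.π (φ 0)) (φ 0) (cokernel.condition _)) :=
      inferInstanceAs (Epi (Abelian.factorThruImage (φ 0)))
    obtain ⟨m₀, rfl⟩ := surjective_hmap_one A h2
      (kernel.lift (cokernel.π (φ 0)) (φ 0) (cokernel.condition _)) hM hG g
    refine ⟨Fin.cons m₀ m, ?_⟩
    rw [hmap_comp, kernel.lift_ι] at hg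
    rw [Fin.sum_univ_succ, Fin.cons_zero]
    simp only [Fin.cons_succ]
    rw [hg, sub_add_cancel]

/-- Direct images of globally generated invertible modules along closed immersions are generated. -/
theorem isGloballyGenerated_push {Z Y : Scheme.{u}} (ι : Z ⟶ Y) [IsClosedImmersion ι] [CompactSpace Z]
    {M : Z.Modules} (hM : PicF.IsInvertible M) (hgg : Curv2.IsGloballyGenerated M) :
    Curv2.IsGloballyGenerated ((Scheme.Modules.pushforward ι).obj M) := by
  rw [GGDesc24.isGloballyGenerated_iff]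
  intro T q hq
  refine Scheme.Modules.hom_ext _ _ fun V => ?_
  ext m
  refine eq_of_locally _ _ _ fun y hy => ?_
  show ∃ (W : Y.Opens) (h : W ≤ V), y ∈ W ∧ res T h (q.app V m) = res T h 0
  by_cases hz : y ∈ Set.range ι
  · obtain ⟨z, rfl⟩ := hz
    obtain ⟨z', hz', hzz'⟩ := exists_isClosed_specializes z
    obtain ⟨t, ht⟩ := exists_gen_of_isGloballyGenerated hM hgg hz'
    obtain ⟨G, hz'G, hG⟩ := Amp73.mem_genLocus_iff.1 ht
    obtain ⟨O, hO, hOG⟩ := ι.isClosedEmbedding.isInducing.isOpen_iff.1 G.2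
    obtain ⟨W, hW, hzW, hsub⟩ := exists_isAffineOpen_mem_and_subset (x := ι z)
      (U := V ⊓ ⟨O, hO⟩) ⟨hy, (Set.ext_iff.1 hOG z).2 (hzz'.mem_open G.2 hz'G)⟩
    have hWV : W ≤ V := fun a ha => (hsub ha).1
    have hWG : ι ⁻¹ᵁ W ≤ G := fun a ha => (Set.ext_iff.1 hOG a).1 (hsub ha).2
    refine ⟨W, hWV, hzW, ?_⟩
    rw [← Mero90.app_res]
    refine Eq.trans ?_ (map_zero _).symm
    obtain ⟨a, ha⟩ := (hG (ι ⁻¹ᵁ W) hWG).2
      (show Γ(M, ι ⁻¹ᵁ W) from res ((Scheme.Modules.pushforward ι).obj M) hWV m)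
    obtain ⟨b, hb⟩ := ι.app_surjective W hW a
    let t' : Γ((Scheme.Modules.pushforward ι).obj M, ⊤) := t
    have hm : res ((Scheme.Modules.pushforward ι).obj M) hWV m =
        b • res ((Scheme.Modules.pushforward ι).obj M) (le_top : W ≤ ⊤) t' := by
      rw [QCqs72.pushforward_smul, hb]
      refine ha.symm.trans (congrArg (fun w : Γ(M, ι ⁻¹ᵁ W) => a • w) ?_)
      rw [res_val, Var76.Frames.val_ofSection]
      rfl
    rw [hm, Scheme.Modules.Hom.app_smul, Mero90.app_res, hq t',
      show res T (le_top : W ≤ ⊤) (0 : Γ(T, ⊤)) = 0 from map_zero _, smul_zero]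
  · let W : Y.Opens := V ⊓ ⟨(Set.range ι)ᶜ, ι.isClosedEmbedding.isClosed_range.isOpen_compl⟩
    refine ⟨W, inf_le_left, ⟨hy, hz⟩, ?_⟩
    rw [← Mero90.app_res]
    refine Eq.trans ?_ (map_zero _).symm
    have hsub : Subsingleton Γ((Scheme.Modules.pushforward ι).obj M, W) := by
      have hbot : ι ⁻¹ᵁ W = ⊥ := Opens.ext (Set.eq_empty_of_forall_notMem fun a ha => ha.2 ⟨a, rfl⟩)
      show Subsingleton Γ(M, ι ⁻¹ᵁ W)
      rw [hbot]
      exact ⟨fun u v => QC70.section_ext M u v fun p hp => hp.elim⟩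
    rw [Subsingleton.elim (res _ _ m) 0]
    exact map_zero _

end Groth.Agent.Curves2.H1Zero
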