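import Groth.Agent.Curves2.H1Zero.Kills
import Mathlib.Topology.KrullDimension

/-!
# `H¹(M ⊗ L) = 0` from sections of `L|V(J)` generating at the maximal points, when `J M = 0`
-/

set_option autoImplicit false
set_option linter.style.haveILetI false
set_option backward.isDefEq.respectTransparency.types false

universe u

open CategoryTheory CategoryTheory.Limits AlgebraicGeometry TopologicalSpace Opposite

noncomputable section

namespace Groth.Agent.Curves2.H1Zero

open Groth.Agent.Crv77 Groth.Agent.Var76.LineBundle Groth.Agent.Var76.ZeroScheme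
open Groth.Agent.Amp73 (tm)

variable {X : Scheme.{u}} {M L : X.Modules} {J : X.IdealSheafData}

theorem tensorE_app_eq (hM : Kills J M) (hL : PicF.IsInvertible L) {V : X.Opens} (t t' : Γ(L, V))
    (h : (valueAt J L).app V t = (valueAt J L).app V t') (m : Γ(M, V)) :
    tm M L m t = tm M L m t' := by
  have h1 : tm M L m (t - t') = 0 := tm_eq_zero hM hL (t - t') (by rw [map_sub, h, sub_self]) m
  have h2 := Amp73.tm_add_right (L := M) (M := L) m (t - t') t'
  rwa [sub_add_cancel, h1, zero_add] at h2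

/-- The map `M → M ⊗ L` given by a section of `(O/J) ⊗ L`. -/
theorem exists_twistHom (hM : Kills J M) (hL : PicF.IsInvertible L)
    (s : Γ(CohB1.tensorMod (ClSub.quotMod J) L, ⊤)) :
    ∃ φ : M ⟶ CohB1.tensorMod M L,
      ∀ y, GenAt J L s y → Function.Surjective (QC70.stalkMapM φ y) := by
  haveI := epi_valueAt J hL
  let ι : Type u := { p : Σ U : X.Opens, Γ(L, U) // (valueAt J L).app p.1 p.2 = res _ le_top s }
  let W : ι → X.Opens := fun p => p.1.1
  let φ : ∀ p : ι, QC70.HomOn M (CohB1.tensorMod M L) (W p) := fun p => tensorE p.1.2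
  have hval : ∀ (p : ι) (V : X.Opens) (h : V ≤ W p),
      (valueAt J L).app V (res L h p.1.2) = res _ le_top s := fun p V h => by
    rw [Mero90.app_res, p.2, res_res]
  have hφ : QC70.HomOn.Compatible φ := fun i j V hi hj m =>
    tensorE_app_eq hM hL _ _ ((hval i V hi).trans (hval j V hj).symm) m
  have hcov : (⊤ : X.Opens) ≤ ⨆ p, W p := fun x _ => by
    obtain ⟨V, h, t, hxV, ht⟩ := QC70.exists_local_lift (valueAt J L) s (show x ∈ (⊤ : X.Opens) from trivial)
    exact Opens.mem_iSup.2 ⟨⟨⟨V, t⟩, ht⟩, hxV⟩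
  refine ⟨(QC70.HomOn.glue hφ hcov).toHom, ?_⟩
  rintro y ⟨U, hyU, t, ht, htv⟩ e
  obtain ⟨Z, hyZ, z, rfl⟩ := QC70.germM_exist e
  let i : ι := ⟨⟨U, t⟩, htv⟩
  obtain ⟨m, hm⟩ := Amp73.exists_eq_tm_frame (L := M) ht (inf_le_right : Z ⊓ U ≤ U)
    (res _ (inf_le_left : Z ⊓ U ≤ Z) z)
  refine ⟨QC70.germM M (Z ⊓ U) y ⟨hyZ, hyU⟩ m, ?_⟩
  rw [QC70.stalkMapM_germ, ← QC70.germM_res inf_le_left ⟨hyZ, hyU⟩ z]
  refine congrArg (QC70.germM _ (Z ⊓ U) y ⟨hyZ, hyU⟩) ?_
  exact ((QC70.HomOn.toHom_app _ (Z ⊓ U) m).trans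
    (QC70.HomOn.glue_app hφ hcov le_top i inf_le_right m)).trans hm

theorem subsingleton_stalk_twist (hM : Kills J M) (hL : PicF.IsInvertible L) {y : X}
    (hy : y ∉ (J.support : Set X)) : Subsingleton ((CohB1.tensorMod M L).presheaf.stalk y) := by
  refine subsingleton_of_forall_eq 0 fun e => ?_
  obtain ⟨Z, hyZ, z, rfl⟩ := QC70.germM_exist e
  obtain ⟨U, hyU, hUZ, f, hf⟩ := Mero90.exists_affine_frame hL y Z hyZ
  obtain ⟨V, hV, hyV, hsub⟩ := exists_isAffineOpen_mem_and_subset (x := y)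
    (U := U.1 ⊓ ⟨(J.support : Set X)ᶜ, J.support.isClosed.isOpen_compl⟩) ⟨hyU, hy⟩
  have hVU : V ≤ U.1 := fun a ha => (hsub ha).1
  obtain ⟨m, hm⟩ := Amp73.exists_eq_tm_frame (L := M) hf hVU (res _ (hVU.trans hUZ) z)
  have h1 : (1 : Γ(X, V)) ∈ J.ideal ⟨V, hV⟩ := (toSubscheme_eq_zero_iff J hV 1).1
    (Ample.toSubscheme_eq_zero_of_disjoint J (fun a ha => (hsub ha).2) 1)
  have h2 := hM ⟨V, hV⟩ 1 h1 V le_rfl m
  rw [show resF (le_refl V) (1 : Γ(X, V)) = 1 from map_one _, one_smul] at h2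
  have h3 : res _ (hVU.trans hUZ) z = (0 : Γ(CohB1.tensorMod M L, V)) := by
    rw [← hm, h2, Amp73.tm_zero_left]
  rw [← QC70.germM_res (hVU.trans hUZ) hyV z, ← QC70.germM_zero (M := CohB1.tensorMod M L) hyV]
  exact congrArg (QC70.germM _ V y hyV) h3

/-- `y` is a maximal point of the closed set `Z`. -/
def MaxIn (Z : Set X) (y : X) : Prop :=
  y ∈ Z ∧ ∀ x ∈ Z, x ⤳ y → x = y

/-- Sections of `(O/J) ⊗ L` generate at every maximal point of `V(J)`. -/
def GenMax (J : X.IdealSheafData) (L : X.Modules) : Prop :=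
  ∀ η : X, MaxIn (J.support : Set X) η → ∃ s, GenAt J L s η

/-- The open locus where some section generates. -/
def genOpen (J : X.IdealSheafData) (L : X.Modules)
    (s : Γ(CohB1.tensorMod (ClSub.quotMod J) L, ⊤)) : X.Opens :=
  ⟨{y | GenAt J L s y}, isOpen_iff_forall_mem_open.2 fun y ⟨U, hyU, t, ht⟩ =>
    ⟨U, fun _ hz => ⟨U, hz, t, ht⟩, U.2, hyU⟩⟩

variable (A : Type u) [CommRing A] [X.Over (Spec (CommRingCat.of A))]

include A in
/-- `H¹(M ⊗ L) = 0` when `J M = 0` and sections generate at the maximal points of `V(J)`. -/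
theorem subsingleton_h1_twist [IsNoetherian X] (hdim : topologicalKrullDim X ≤ 1) (h2 : H2Zero X)
    (hM : Kills J M) (hL : PicF.IsInvertible L) (hgen : GenMax J L) (hMc : Coh.IsCoh M)
    (h1 : Subsingleton (Coh.HH X M 1)) : Subsingleton (Coh.HH X (CohB1.tensorMod M L) 1) := by
  classical
  let G := ⋃ s, (genOpen J L s : Set X)
  have hG : IsOpen G := isOpen_iUnion fun s => (genOpen J L s).2
  obtain ⟨F, hF⟩ := (NoetherianSpace.isCompact G).elim_finite_subcover
    (fun s => (genOpen J L s : Set X)) (fun s => (genOpen J L s).2) subset_rfl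
  choose φ hφ using fun s : Γ(CohB1.tensorMod (ClSub.quotMod J) L, ⊤) => exists_twistHom hM hL s
  let S : Set X := (J.support : Set X) \ G
  have hScl : ∀ y ∈ S, IsClosed ({y} : Set X) := by
    intro y hy
    by_cases hmax : MaxIn (J.support : Set X) y
    · obtain ⟨s, hs⟩ := hgen y hmax
      exact (hy.2 (Set.mem_iUnion.2 ⟨s, hs⟩)).elim
    · simp only [MaxIn, hy.1, true_and, not_forall] at hmax
      obtain ⟨x, -, hxy, hne⟩ := hmax
      exact Crv77.isClosed_singleton_of_generalization hdim hxy (Ne.symm hne)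
  have hSfin : S.Finite := by
    have h := Crv77.finite_inter_of_forall_closed (J.support.isClosed.sdiff hG) (⊤ : X.Opens)
      fun y hy => hScl y hy.1
    simpa using h
  refine subsingleton_h1_of_maps A h2 hMc h1 hSfin hScl F.card
    (Amp73.isCoh_tensorMod hMc (Amp73.isCoh_of_isInvertible hL))
    (fun i => φ (F.equivFin.symm i).1) fun y hy => ?_
  by_cases hyJ : y ∈ (J.support : Set X)
  · have hyG : y ∈ G := by_contra fun h => hy ⟨hyJ, h⟩
    obtain ⟨s, hsF, hys⟩ := Set.mem_iUnion₂.1 (hF hyG)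
    refine Or.inr ⟨F.equivFin ⟨s, hsF⟩, ?_⟩
    simpa using hφ s y hys
  · exact Or.inl (subsingleton_stalk_twist hM hL hyJ)

end Groth.Agent.Curves2.H1Zero
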